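import Groth.Agent.Fano.K745.ConDef
import Groth.Prelude.Def_AlgSt4

/-!
# Families of maps from conics: definitions for the stack part

* `Mst G`: the category of stable maps of genus `0` and degree `2` to the hypersurface `V_+(G)`;
* `Datum G A`: a presentation of the family `A` of maps to `V_+(G)` as a family of maps from conics: `c`, `φ`, and sections
  `x_0, x_1, x_2` of an invertible module `L`;
* `IsPull D D' h`: the datum `D` of `A` is the pullback of the datum `D'` of `A'` along `h : A ⟶ A'`;
* `IsMat D D' g`: `x' = g x` and `φ = φ' g` for two data of the same family;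
* `cAt u`, `φAt u`: the pair `(c, φ)` of a morphism `u : T ⟶ VG G`;
* `Univ G`: a universal family over `VG G`.
-/

set_option autoImplicit false

universe u

open CategoryTheory CategoryTheory.Limits AlgebraicGeometry

namespace K745.StDef

open K390.PnSec Groth.Agent.Fdesc.LocGen K188.LineDef K745.ConDef W4swstmapratcurves

variable {k : Type u} [Field k] {n d : ℕ}

/-- The category of stable maps of genus `0` and degree `2` to the hypersurface. -/
noncomputable abbrev Mst (G : LefPen.Form n k d) : AlgSt.Cat (Spec (CommRingCat.of k)) :=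
  StMap.MapSt (Spec (CommRingCat.of k)) (hypOver G) (hypO1 G) 0 0 2

/-- Families of maps to the hypersurface. -/
abbrev Fam (G : LefPen.Form n k d) : Type (u + 1) := StMap.MapFamObj (Spec (CommRingCat.of k)) 0 (hypOver G)

variable {G : LefPen.Form n k d}

/-- A presentation of a family of maps to the hypersurface as a family of maps from conics. -/
structure Datum (A : Fam G) where
  /-- the equation of the conic -/
  c : Fin 5 → Γ(A.base.left, ⊤)
  /-- the matrix of the map -/
  φ : Fin (n + 1) → Fin 3 → Γ(A.base.left, ⊤)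
  /-- the module `O(1)` on the conic -/
  L : A.C.Modules
  /-- the coordinates -/
  x : Fin 3 → Γ(L, ⊤)
  isCon : IsCon c A.f L x
  givenBy : GivenBy (A.map ≫ (LefPen.hypIdeal G).subschemeι) L (msec A.f x φ)

/-- Functions pulled back along a morphism of schemes. -/
noncomputable abbrev pb {T T' : Scheme.{u}} (b : T ⟶ T') (a : Γ(T', ⊤)) : Γ(T, ⊤) := b.appTop a

/-- The datum `D` is the pullback of the datum `D'`. -/
structure IsPull {A A' : Fam G} (D : Datum A) (D' : Datum A') (h : A ⟶ A') : Prop where
  c : ∀ i, D.c i = pb h.hom.base.left (D'.c i)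
  φ : ∀ l i, D.φ l i = pb h.hom.base.left (D'.φ l i)
  x : ∃ τ : (Scheme.Modules.pullback h.hom.top).obj D'.L ≅ D.L, ∀ i, τ.hom.app ⊤ (pullTop h.hom.top (D'.x i)) = D.x i

/-- The data `D`, `D'` of the same family differ by the matrix `g`: `x' = g x` and `φ = φ' g`. -/
structure IsMat {A : Fam G} (D D' : Datum A) (g : Matrix (Fin 3) (Fin 3) Γ(A.base.left, ⊤)) : Prop where
  φ : ∀ l j, D.φ l j = ∑ i, D'.φ l i * g i j
  x : ∃ τ : D'.L ≅ D.L, ∀ i, τ.hom.app ⊤ (D'.x i) = ∑ j, (A.f.appTop (g i j)) • D.x j

/-- The functions `c` of a morphism to `VG G`. -/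
noncomputable def cAt {T : Scheme.{u}} (u : T ⟶ VG G.1) (i : Fin 5) : Γ(T, ⊤) :=
  (u ≫ (VO G.1).ι).appTop ((Scheme.ΓSpecIso (CommRingCat.of (RC G.1))).inv (mkR G.1 (cU n k i)))

/-- The functions `φ` of a morphism to `VG G`. -/
noncomputable def φAt {T : Scheme.{u}} (u : T ⟶ VG G.1) (l : Fin (n + 1)) (i : Fin 3) : Γ(T, ⊤) :=
  (u ≫ (VO G.1).ι).appTop ((Scheme.ΓSpecIso (CommRingCat.of (RC G.1))).inv (mkR G.1 (φU n k l i)))

variable (G) in
/-- A universal family of maps from conics over `VG G`. -/
structure Univ where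
  /-- the total space -/
  C : Scheme.{u}
  /-- the structure morphism -/
  f : C ⟶ VG G.1
  /-- the map to the hypersurface -/
  m : C ⟶ (hypOver G).left
  m_over : m ≫ (hypOver G).hom = f ≫ (VGk G.1).hom
  /-- the module `O(1)` -/
  L : C.Modules
  /-- the coordinates -/
  x : Fin 3 → Γ(L, ⊤)
  isCon : IsCon (cAt (𝟙 (VG G.1))) f L x
  givenBy : GivenBy (m ≫ (LefPen.hypIdeal G).subschemeι) L (msec f x (φAt (𝟙 (VG G.1))))
  stable : StMap.IsStableMapFam f (Fin.elim0 : Fin 0 → (VG G.1 ⟶ C)) (fun i => i.elim0) m 0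
  deg : StMap.IsFibDeg f m (hypO1 G) 2

/-- The universal family as a family of maps. -/
noncomputable def Univ.fam (U : Univ G) : Fam G where
  base := VGk G.1
  C := U.C
  f := U.f
  sect := Fin.elim0
  sect_f i := i.elim0
  map := U.m
  map_over := U.m_over

/-- The universal family as an object of the stack. -/
noncomputable def Univ.obj (U : Univ G) : (Mst G).obj := ⟨U.fam, U.stable, U.deg⟩

/-- The datum of the universal family. -/
noncomputable def Univ.dat (U : Univ G) : Datum U.fam where
  c := cAt (𝟙 (VG G.1))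
  φ := φAt (𝟙 (VG G.1))
  L := U.L
  x := U.x
  isCon := U.isCon
  givenBy := U.givenBy

end K745.StDef
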