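import Groth.Agent.Fano.K188.LineDef
import Mathlib.LinearAlgebra.CrossProduct

/-!
# Conics and maps from conics to hypersurfaces: definitions

* `qf c = X_0² + c_0 X_0X_1 + c_1 X_0X_2 + c_2 X_1² + c_3 X_1X_2 + c_4 X_2²`, a ternary quadratic form monic in `X_0`;
  `disc3 c`: the entries of `4 q - (2 X_0 + c_0 X_1 + c_1 X_2)²` (rank at least two iff some entry is not zero, `2` invertible);
* `comp3 F g = F(Σ_j g_{0j} X_j, …)`; `subF ρ G φ = G(Σ_i φ_{l,i} X_i)`; `remCoeff c F`: coefficients of the remainder of `F`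
  modulo `qf c` (as a polynomial in `X_0`);
* `Van f x F`: the form `F` with coefficients on the base `T` of `f : C ⟶ T` vanishes at the sections `x` of `L`;
* `IsZer ι F`: `ι : C ⟶ P2 T` is the closed subscheme `F = 0` of the projective plane over `T`;
* `IsCon c f L x`: `f : C ⟶ T` with the sections `x_0, x_1, x_2` of `L` is the plane conic `qf c = 0` over `T`;
* `msec f x φ l = Σ_i φ_{l,i} x_i`;
* `bpf c φ`: polynomials such that `msec f x φ` generates `L` iff at each point of `T` one of them is not zero;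
* `Reg c φ`: at each point of `T` the conic has rank at least two and the map is defined everywhere;
* `AC n k`, `cU`, `φU`, `conIdeal G`, `RC G`, `VG G`: the space of all `(c, φ)` with `qf c ∣ G ∘ φ` and `Reg c φ`.
-/

set_option autoImplicit false

universe u

open CategoryTheory CategoryTheory.Limits AlgebraicGeometry

namespace K745.ConDef

open K390.PnSec Groth.Agent.Fdesc.LocGen Groth.Agent.Dix.ProjProper K188.LineDef

section Forms

variable {A B : Type u} [CommRing A] [CommRing B]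

/-- The ternary quadratic form with coefficients `c`, monic in the first variable. -/
noncomputable def qf (c : Fin 5 → A) : MvPolynomial (Fin 3) A :=
  MvPolynomial.X 0 ^ 2 + MvPolynomial.C (c 0) * (MvPolynomial.X 0 * MvPolynomial.X 1) +
    MvPolynomial.C (c 1) * (MvPolynomial.X 0 * MvPolynomial.X 2) + MvPolynomial.C (c 2) * MvPolynomial.X 1 ^ 2 +
    MvPolynomial.C (c 3) * (MvPolynomial.X 1 * MvPolynomial.X 2) + MvPolynomial.C (c 4) * MvPolynomial.X 2 ^ 2

theorem map_qf (g : A →+* B) (c : Fin 5 → A) : (qf c).map g = qf (fun i => g (c i)) := by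
  simp [qf]

/-- The coefficients of `4 qf c - (2 X_0 + c_0 X_1 + c_1 X_2)²`. -/
def disc3 (c : Fin 5 → A) : Fin 3 → A :=
  ![4 * c 2 - c 0 ^ 2, 4 * c 3 - 2 * c 0 * c 1, 4 * c 4 - c 1 ^ 2]

/-- The linear form `Σ_i v_i X_i`. -/
noncomputable def lin3 (v : Fin 3 → A) : MvPolynomial (Fin 3) A := ∑ i, MvPolynomial.C (v i) * MvPolynomial.X i

/-- The form `F(Σ_j g_{0j} X_j, Σ_j g_{1j} X_j, Σ_j g_{2j} X_j)`. -/
noncomputable def comp3 (F : MvPolynomial (Fin 3) A) (g : Matrix (Fin 3) (Fin 3) A) : MvPolynomial (Fin 3) A :=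
  MvPolynomial.aeval (fun i => lin3 (g i)) F

variable {n : ℕ}

/-- The form `G` composed with the linear map with matrix `φ`. -/
noncomputable def subF (ρ : B →+* A) (G : MvPolynomial (Fin (n + 1)) B) (φ : Fin (n + 1) → Fin 3 → A) :
    MvPolynomial (Fin 3) A :=
  MvPolynomial.eval₂ (MvPolynomial.C.comp ρ) (fun l => lin3 (φ l)) G

/-- The form `∂G/∂X_l (Σ_i φ_{·,i} X_i)`. -/
noncomputable def dG (ρ : B →+* A) (G : MvPolynomial (Fin (n + 1)) B) (φ : Fin (n + 1) → Fin 3 → A)
    (l : Fin (n + 1)) : MvPolynomial (Fin 3) A := subF ρ (MvPolynomial.pderiv l G) φ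

/-- Every form of degree `d` on the conic is a combination of the `∂_l G ∘ φ` with linear coefficients. -/
def Unob (d : ℕ) (ρ : B →+* A) (G : MvPolynomial (Fin (n + 1)) B) (c : Fin 5 → A)
    (φ : Fin (n + 1) → Fin 3 → A) : Prop :=
  ∀ F : MvPolynomial (Fin 3) A, F.IsHomogeneous d →
    ∃ (v : Fin (n + 1) → Fin 3 → A) (H : MvPolynomial (Fin 3) A), F = ∑ l, dG ρ G φ l * lin3 (v l) + H * qf c

/-- The coefficients of the remainder of `F` modulo `qf c`. -/
noncomputable def remCoeff (c : Fin 5 → A) (F : MvPolynomial (Fin 3) A) (m : ℕ) (e : Fin 2 →₀ ℕ) : A :=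
  MvPolynomial.coeff e ((MvPolynomial.finSuccEquiv A 2 F %ₘ MvPolynomial.finSuccEquiv A 2 (qf c)).coeff m)

/-- The determinant of three rows of `φ`. -/
noncomputable def det3 (φ : Fin (n + 1) → Fin 3 → A) (l : Fin 3 → Fin (n + 1)) : A :=
  Matrix.det (Matrix.of fun i j => φ (l i) j)

/-- Polynomials in `(c, φ)`; at a point of the base the sections `msec` have no common zero on the conic iff one of these
polynomials is not zero. -/
noncomputable def bpf (c : Fin 5 → A) (φ : Fin (n + 1) → Fin 3 → A) :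
    (Fin 3 → Fin (n + 1)) ⊕ (Fin (n + 1) × Fin (n + 1)) → A
  | Sum.inl l => det3 φ l
  | Sum.inr ab => MvPolynomial.eval (crossProduct (φ ab.1) (φ ab.2)) (qf c)

/-- The products of the entries of `disc3` and of `bpf`. -/
noncomputable def regPoly (c : Fin 5 → A) (φ : Fin (n + 1) → Fin 3 → A)
    (i : Fin 3 × ((Fin 3 → Fin (n + 1)) ⊕ (Fin (n + 1) × Fin (n + 1)))) : A := disc3 c i.1 * bpf c φ i.2

end Forms

section Schemes

variable {T C Y : Scheme.{u}}

/-- The projective plane over `T`. -/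
noncomputable abbrev P2 (T : Scheme.{u}) : Scheme.{u} := CohB1.ProjSpaceOver 2 T

/-- The projection of the projective plane over `T`. -/
noncomputable abbrev pr2 (T : Scheme.{u}) : P2 T ⟶ T := CohB1.ProjSpaceOver.toBase 2 T

/-- Functions on the base, as functions on an open of the total space. -/
noncomputable def ρV (f : C ⟶ T) (V : C.Opens) : Γ(T, ⊤) →+* Γ(C, V) := (ores le_top).comp f.appTop.hom

/-- The form `F` vanishes at the sections `x` of the module `L`. -/
def Van (f : C ⟶ T) {L : C.Modules} {m : ℕ} (x : Fin m → Γ(L, ⊤)) (F : MvPolynomial (Fin m) Γ(T, ⊤)) : Prop :=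
  ∀ (V : C.Opens) (e : Γ(L, V)) (a : Fin m → Γ(C, V)), IsGen e → (∀ i, res L le_top (x i) = a i • e) →
    MvPolynomial.eval₂ (ρV f V) a F = 0

/-- The sections generate. -/
def Gens {L : C.Modules} {m : ℕ} (x : Fin m → Γ(L, ⊤)) : Prop := ⨆ i, CohB1.genLocus L (homOf (x i)) = ⊤

/-- `ι : C ⟶ P2 T` is the closed subscheme `F = 0` of the projective plane over `T`. -/
structure IsZer (ι : C ⟶ P2 T) (F : MvPolynomial (Fin 3) Γ(T, ⊤)) : Prop where
  isClosedImmersion : IsClosedImmersion ι
  exists_iff : ∀ {Y : Scheme.{u}} (r : Y ⟶ P2 T),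
    (∃ h : Y ⟶ C, h ≫ ι = r) ↔ Van (r ≫ pr2 T) (fun i => pullTop r (crd 2 T i)) F

/-- `f : C ⟶ T` with the sections `x_0, x_1, x_2` of `L` is the plane conic `qf c = 0` over `T`. -/
def IsCon (c : Fin 5 → Γ(T, ⊤)) (f : C ⟶ T) (L : C.Modules) (x : Fin 3 → Γ(L, ⊤)) : Prop :=
  ∃ ι : C ⟶ P2 T, ι ≫ pr2 T = f ∧ GivenBy (ι ≫ toZ 2 T) L x ∧ IsZer ι (qf c)

variable {n : ℕ}

/-- The sections `Σ_i φ_{l,i} x_i`. -/
noncomputable def msec (f : C ⟶ T) {L : C.Modules} (x : Fin 3 → Γ(L, ⊤)) (φ : Fin (n + 1) → Fin 3 → Γ(T, ⊤))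
    (l : Fin (n + 1)) : Γ(L, ⊤) := ∑ i, (f.appTop (φ l i)) • x i

/-- The conic `c` has rank at least two at every point, and the map with matrix `φ` is defined everywhere. -/
def Reg (c : Fin 5 → Γ(T, ⊤)) (φ : Fin (n + 1) → Fin 3 → Γ(T, ⊤)) : Prop :=
  ⨆ i, T.basicOpen (regPoly c φ i) = ⊤

end Schemes

section Param

variable (n : ℕ) (R : Type u) [CommRing R]

/-- The ring of polynomials in `c_0, …, c_4` and `φ_{l,i}`. -/
abbrev AC : Type u := MvPolynomial (Fin 5 ⊕ (Fin (n + 1) × Fin 3)) R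

/-- The universal `c`. -/
noncomputable def cU (i : Fin 5) : AC n R := MvPolynomial.X (Sum.inl i)

/-- The universal `φ`. -/
noncomputable def φU (l : Fin (n + 1)) (i : Fin 3) : AC n R := MvPolynomial.X (Sum.inr (l, i))

variable {n R}

/-- The ideal of the `(c, φ)` such that `qf c` divides `G ∘ φ`. -/
noncomputable def conIdeal (G : MvPolynomial (Fin (n + 1)) R) : Ideal (AC n R) :=
  Ideal.span {a | ∃ m e, remCoeff (cU n R) (subF MvPolynomial.C G (φU n R)) m e = a}

/-- The ring of the `(c, φ)` such that `qf c` divides `G ∘ φ`. -/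
abbrev RC (G : MvPolynomial (Fin (n + 1)) R) : Type u := AC n R ⧸ conIdeal G

/-- The class of a polynomial in `(c, φ)`. -/
noncomputable abbrev mkR (G : MvPolynomial (Fin (n + 1)) R) : AC n R →+* RC G := Ideal.Quotient.mk (conIdeal G)

/-- The open subset of the regular pairs `(c, φ)`. -/
noncomputable def VO (G : MvPolynomial (Fin (n + 1)) R) : (Spec (CommRingCat.of (RC G))).Opens :=
  ⨆ i, PrimeSpectrum.basicOpen (mkR G (regPoly (cU n R) (φU n R) i))

/-- The scheme of the pairs `(c, φ)` such that `qf c` divides `G ∘ φ`, `qf c` has rank at least two, and the map is defined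
everywhere. -/
noncomputable abbrev VG (G : MvPolynomial (Fin (n + 1)) R) : Scheme.{u} := (VO G).toScheme

/-- The scheme `VG G` over the base. -/
noncomputable abbrev VGk (G : MvPolynomial (Fin (n + 1)) R) : Over (Spec (CommRingCat.of R)) :=
  Over.mk ((VO G).ι ≫ Spec.map (CommRingCat.ofHom (algebraMap R (RC G))))

/-- The form `G` at the pair `(c, φ)` defined by a ring homomorphism `RC G →+* B` is unobstructed. -/
def UnobAt {B : Type u} [CommRing B] (d : ℕ) (G : MvPolynomial (Fin (n + 1)) R) (α : RC G →+* B) : Prop :=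
  Unob d (α.comp (algebraMap R (RC G))) G (fun i => α (mkR G (cU n R i))) (fun l i => α (mkR G (φU n R l i)))

/-- The points of `VG G` at which the first three rows of `φ` form the identity matrix. -/
def SG (G : MvPolynomial (Fin (n + 1)) R) : Set (PrimeSpectrum (RC G)) :=
  {p | p ∈ VO G ∧ ∀ (i j : Fin 3) (l : Fin (n + 1)), l.val = i.val →
    mkR G (φU n R l j - if i = j then 1 else 0) ∈ p.asIdeal}

end Param

end K745.ConDef
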