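import Groth.Agent.Fano.K745.ConDef
import Groth.Agent.Lefpen.H701.FormSmall

/-!
# Conics on hypersurfaces: definitions for the algebraic part

* `FI n d`: exponents of degree `d`; `formOf γ`: the form with coefficients `γ`; `FU n d R`: the universal form, with coefficients in
  `MvPolynomial (FI n d) R`;
* `del hn φ`: the determinant of the first three rows of `φ`; `RD hn G`: the localization of `RC G` at it;
* `UnobPt d G p`: the pair `(c, φ)` at the point `p` is unobstructed;
* `Eqv G p p'`: the pairs at `p` and `p'` differ by a change of coordinates over a common extension field;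
* `GoodG G`: what holds for general `G`.
-/

set_option autoImplicit false

universe u

open CategoryTheory CategoryTheory.Limits AlgebraicGeometry

namespace K745.HDef

open K745.ConDef W4swstmapratcurves Groth.Agent.Lefpen.H701

section Defs

/-- The form with coefficients `γ`. -/
noncomputable def formOf {n d : ℕ} {A : Type u} [CommRing A] (γ : FI n d → A) : MvPolynomial (Fin (n + 1)) A :=
  ∑ α : FI n d, MvPolynomial.monomial α.1 (γ α)

/-- The universal form of degree `d`. -/
noncomputable def FU (n d : ℕ) (R : Type u) [CommRing R] : MvPolynomial (Fin (n + 1)) (MvPolynomial (FI n d) R) :=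
  formOf MvPolynomial.X

/-- The first three indices. -/
def row3 {n : ℕ} (hn : 2 ≤ n) (i : Fin 3) : Fin (n + 1) := ⟨i.val, by omega⟩

/-- The determinant of the first three rows. -/
noncomputable def del {n : ℕ} (hn : 2 ≤ n) {A : Type u} [CommRing A] (φ : Fin (n + 1) → Fin 3 → A) : A :=
  det3 φ (row3 hn)

/-- The localization of `RC G` at the determinant of the first three rows of `φ`. -/
abbrev RD {n : ℕ} (hn : 2 ≤ n) {R : Type u} [CommRing R] (G : MvPolynomial (Fin (n + 1)) R) : Type u :=
  Localization.Away (mkR G (del hn (φU n R)))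

/-- Unobstructed points of the spectrum of `RC G`. -/
def UnobPt {n : ℕ} (d : ℕ) {R : Type u} [CommRing R] (G : MvPolynomial (Fin (n + 1)) R)
    (p : PrimeSpectrum (RC G)) : Prop := UnobAt d G (algebraMap (RC G) p.asIdeal.ResidueField)

end Defs

section Quot

variable {n d : ℕ}

/-- Two points of the spectrum of `RC G` are equivalent if over a common extension field the corresponding pairs `(c, φ)`
and `(c', φ')` differ by a change of coordinates. -/
def Eqv {R : Type u} [CommRing R] (G : MvPolynomial (Fin (n + 1)) R) (p p' : PrimeSpectrum (RC G)) : Prop :=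
  ∃ (Ω : Type u) (_ : Field Ω) (α α' : RC G →+* Ω), RingHom.ker α = p.asIdeal ∧ RingHom.ker α' = p'.asIdeal ∧
    α.comp (algebraMap R (RC G)) = α'.comp (algebraMap R (RC G)) ∧
    ∃ (g : Matrix (Fin 3) (Fin 3) Ω) (w : Ω), IsUnit g.det ∧ w ≠ 0 ∧
      comp3 (qf fun i => α' (mkR G (cU n R i))) g = MvPolynomial.C w * (qf fun i => α (mkR G (cU n R i))) ∧
      ∀ l j, α (mkR G (φU n R l j)) = ∑ i, α' (mkR G (φU n R l i)) * g i j

/-- The conditions on the form `G` which hold for general `G`. -/
structure GoodG {k : Type u} [Field k] (G : LefPen.Form n k d) : Prop where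
  ne_zero : G ≠ 0
  smooth : Smooth (hypOver G).hom
  irr : IrreducibleSpace (VG G.1)
  dim : topologicalKrullDim (VG G.1) = ((3 * n + 7 - 2 * d : ℕ) : WithBot ℕ∞)
  unob : ∃ p ∈ VO G.1, UnobPt d G.1 p
  slice : ((3 * n - 2 * d - 2 : ℕ) : WithBot ℕ∞) ≤ topologicalKrullDim (SG G.1)

end Quot

end K745.HDef
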