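import Groth.Agent.Fano.K745.Prod
import Groth.Agent.Fano.K745.HDef
import Groth.Agent.AlgSt.K736.Fib
import Groth.Agent.AlgSt.K736.QC

/-!
# The chart `VG G ⟶ Mst G` and the points of `Mst G`

* `xV U`: the chart of the universal family `U`; `eU U`: its value at the identity is the universal family.
-/

set_option autoImplicit false
set_option backward.isDefEq.respectTransparency false
set_option backward.isDefEq.respectTransparency.types false

universe u

open CategoryTheory CategoryTheory.Limits AlgebraicGeometry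

namespace K745.Chart

open K745.ConDef K745.HDef K745.StDef K745.Prod W4swstmapratcurves K655.MapPre

variable {k : Type u} [Field k] {n d : ℕ} {G : LefPen.Form n k d}

theorem isFibGrpd (G : LefPen.Form n k d) : FibCat.IsFibGrpd (Mst G).p := isFibGrpd_mapSt _ _ _ _ _ _

theorem isPrestack (G : LefPen.Form n k d) : Stk.IsPrestack (AlgSp.J (Spec (CommRingCat.of k))) (Mst G) :=
  isPrestack_mapSt _ _ _ _ _ _

/-- The chart of the universal family. -/
noncomputable def xV (U : Univ G) : FibCat.overCat (VGk G.1) ⥤ᵇ Mst G :=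
  K736.Fib.ofObj (isFibGrpd G) U.obj (𝟙 (VGk G.1))

/-- The value of the chart at the identity is the universal family. -/
noncomputable def eU (U : Univ G) : (xV U).obj (Over.mk (𝟙 (VGk G.1))) ⟶ U.obj :=
  K736.Fib.ofObjHom (isFibGrpd G) U.obj (𝟙 (VGk G.1)) (Over.mk (𝟙 (VGk G.1)))

theorem map_eU (U : Univ G) : (Mst G).p.map (eU U) = eqToHom ((xV U).w_obj (Over.mk (𝟙 (VGk G.1)))) := by
  refine (K736.Fib.map_ofObjHom (isFibGrpd G) U.obj (𝟙 (VGk G.1)) (Over.mk (𝟙 (VGk G.1)))).trans ?_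
  have h : (Over.mk (𝟙 (VGk G.1))).hom ≫ 𝟙 (VGk G.1) = 𝟙 (VGk G.1) := Category.comp_id _
  rw [h]
  exact Category.comp_id _

instance (U : Univ G) : IsIso (eU U) := by
  have : IsIso ((Mst G).p.map (eU U)) := by
    rw [map_eU]
    infer_instance
  exact K736.Fib.isIso_of_isIso_map (isFibGrpd G) _

theorem map_comp_inv_eU {Z : (Mst G).obj} (U : Univ G) (α : Z ⟶ U.obj) :
    ((Mst G).p.map (α ≫ inv (eU U)) ≫ eqToHom ((xV U).w_obj (Over.mk (𝟙 (VGk G.1))))) = (Mst G).p.map α := by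
  rw [← map_eU, ← Functor.map_comp, Category.assoc, IsIso.inv_hom_id, Category.comp_id]

theorem map_comp_eU {Z : (Mst G).obj} (U : Univ G) (α : Z ⟶ (xV U).obj (Over.mk (𝟙 (VGk G.1)))) :
    ((Mst G).p.map α ≫ eqToHom ((xV U).w_obj (Over.mk (𝟙 (VGk G.1))))) = (Mst G).p.map (α ≫ eU U) := by
  rw [← map_eU, ← Functor.map_comp]

/-- The chart is representable and smooth (from G1, V5, V6). -/
theorem smooth_xV (U : Univ G)
    (hG1 : ∀ (X : FibCat.overCat (VGk G.1) ⥤ᵇ Mst G),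
      (∀ (Y : (Mst G).obj) (t : ((Mst G).p.obj Y).left), ∃ (Y' : (Mst G).obj) (g : Y' ⟶ Y)
        (t' : ((Mst G).p.obj Y').left) (Z : (Mst G).obj)
        (α : Z ⟶ X.obj (Over.mk (𝟙 (VGk G.1)))) (β : Z ⟶ Y'), Etale ((Mst G).p.map g).left ∧
        ((Mst G).p.map g).left t' = t ∧
        (∀ (Z' : (Mst G).obj) (a : Z' ⟶ X.obj (Over.mk (𝟙 (VGk G.1)))) (b : Z' ⟶ Y'),
          ∃! z : Z' ⟶ Z, z ≫ α = a ∧ z ≫ β = b) ∧ Smooth ((Mst G).p.map β).left) →
      AlgSt.RepByAlgSpWith (AlgSp.LocP @Smooth) X)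
    (hV5 : ∀ (A : (Mst G).obj) (t : A.obj.base.left),
      ∃ (A' : (Mst G).obj) (h : A' ⟶ A) (t' : A'.obj.base.left), IsOpenImmersion ((Mst G).p.map h).left ∧
        ((Mst G).p.map h).left t' = t ∧ Nonempty (Datum A'.obj))
    (hV6 : ∀ (Y : (Mst G).obj) (_ : Datum Y.obj),
      ∃ (Z : (Mst G).obj) (α : Z ⟶ U.obj) (β : Z ⟶ Y),
        (∀ (Z' : (Mst G).obj) (a : Z' ⟶ U.obj) (b : Z' ⟶ Y), ∃! z : Z' ⟶ Z, z ≫ α = a ∧ z ≫ β = b) ∧
        Smooth ((Mst G).p.map β).left) :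
    AlgSt.RepByAlgSpWith (AlgSp.LocP @Smooth) (xV U) := by
  refine hG1 (xV U) fun Y t => ?_
  obtain ⟨A', h, t', ho, ht, ⟨D⟩⟩ := hV5 Y t
  obtain ⟨Z, α, β, hZ, hs⟩ := hV6 A' D
  refine ⟨A', h, t', Z, α ≫ inv (eU U), β, inferInstance, ht, fun Z' a b => ?_, hs⟩
  obtain ⟨z, ⟨h1, h2⟩, hz⟩ := hZ Z' (a ≫ eU U) b
  refine ⟨z, ⟨?_, h2⟩, fun z' hz' => hz z' ⟨?_, hz'.2⟩⟩
  · rw [← Category.assoc, h1, Category.assoc, IsIso.hom_inv_id, Category.comp_id]
  · rw [← hz'.1, Category.assoc, Category.assoc, IsIso.inv_hom_id, Category.comp_id]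

/-- Every field valued point comes from the universal family (from V5, Kit). -/
theorem exists_hom_univ (K : Kit G) (U : Univ G)
    (hV5 : ∀ (A : (Mst G).obj) (t : A.obj.base.left),
      ∃ (A' : (Mst G).obj) (h : A' ⟶ A) (t' : A'.obj.base.left), IsOpenImmersion ((Mst G).p.map h).left ∧
        ((Mst G).p.map h).left t' = t ∧ Nonempty (Datum A'.obj))
    (p : AlgSt.FPt (Mst G)) : ∃ θ : p.obj ⟶ U.obj, Nonempty (Datum p.obj.obj) := by
  have hsub : ∀ (B : Over (Spec (CommRingCat.of k))), B = Over.mk p.str → Subsingleton B.left ∧ Nonempty B.left := by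
    rintro B rfl
    exact ⟨inferInstanceAs (Subsingleton (PrimeSpectrum p.K)), inferInstanceAs (Nonempty (PrimeSpectrum p.K))⟩
  obtain ⟨hs, ⟨t⟩⟩ := hsub p.obj.obj.base p.lies
  obtain ⟨A', h, t', ho, ht, ⟨D⟩⟩ := hV5 p.obj t
  have hsurj : Function.Surjective ((Mst G).p.map h).left := fun x => ⟨t', hs.elim _ _⟩
  have hi : IsIso ((Mst G).p.map h).left := by
    exact (isIso_iff_isOpenImmersion_and_surjective _).2 ⟨ho, ⟨hsurj⟩⟩
  have hi2 : IsIso ((Mst G).p.map h) := by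
    have : IsIso ((Over.forget _).map ((Mst G).p.map h)) := hi
    exact isIso_of_reflects_iso _ (Over.forget _)
  have hi3 : IsIso h := K736.Fib.isIso_of_isIso_map (isFibGrpd G) _
  obtain ⟨D', hD'⟩ := K.exists_pull (inv h).hom D
  obtain ⟨hr, hd⟩ := K.reg p.obj D'
  obtain ⟨u, ⟨hu1, hu2⟩, -⟩ := K.toVG _ D'.c D'.φ hr hd
  obtain ⟨α₀, -, -⟩ := K.hom D' U.dat u
    (fun i => (hu1 i).symm.trans ((congrArg (fun t => cAt t i) (Category.comp_id _)).symm.trans (K.cAt_comp _ _ _)))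
    (fun l i => (hu2 l i).symm.trans
      ((congrArg (fun t => φAt t l i) (Category.comp_id _)).symm.trans (K.φAt_comp _ _ _ _)))
  exact ⟨ObjectProperty.homMk α₀, ⟨D'⟩⟩

end K745.Chart
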