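import Groth.Agent.Fano.K745.UnobP
import Groth.Prelude.Def_RefHull
import Groth.Prelude.Def_Omega2

/-!
# S16939: assembly

`conclusion`: the three conclusions for a good form `G`, from the nodes.
-/

set_option autoImplicit false
set_option backward.isDefEq.respectTransparency false
set_option backward.isDefEq.respectTransparency.types false

universe u

open CategoryTheory CategoryTheory.Limits AlgebraicGeometry

namespace K745.Fin'

open K745.ConDef K745.HDef K745.StDef K745.Prod K745.Chart K745.Pts K745.UnobP W4swstmapratcurves K655.MapPre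
open K925.StV K188.LineDef K390.PnSec

variable {k : Type u} [Field k] {n d : ℕ}

/-- The statement of node G1 for charts of `Mst G`. -/
def NodeG1 (G : LefPen.Form n k d) : Prop :=
  ∀ (X : FibCat.overCat (VGk G.1) ⥤ᵇ Mst G),
      (∀ (Y : (Mst G).obj) (t : ((Mst G).p.obj Y).left), ∃ (Y' : (Mst G).obj) (g : Y' ⟶ Y)
        (t' : ((Mst G).p.obj Y').left) (Z : (Mst G).obj)
        (α : Z ⟶ X.obj (Over.mk (𝟙 (VGk G.1)))) (β : Z ⟶ Y'), Etale ((Mst G).p.map g).left ∧
        ((Mst G).p.map g).left t' = t ∧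
        (∀ (Z' : (Mst G).obj) (a : Z' ⟶ X.obj (Over.mk (𝟙 (VGk G.1)))) (b : Z' ⟶ Y'),
          ∃! z : Z' ⟶ Z, z ≫ α = a ∧ z ≫ β = b) ∧ Smooth ((Mst G).p.map β).left) →
      AlgSt.RepByAlgSpWith (AlgSp.LocP @Smooth) X

/-- The statement of node V5. -/
def NodeV5 (G : LefPen.Form n k d) : Prop :=
  ∀ (A : (Mst G).obj) (t : A.obj.base.left),
      ∃ (A' : (Mst G).obj) (h : A' ⟶ A) (t' : A'.obj.base.left), IsOpenImmersion ((Mst G).p.map h).left ∧
        ((Mst G).p.map h).left t' = t ∧ Nonempty (Datum A'.obj)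

/-- The statement of node V7. -/
def NodeV7 {G : LefPen.Form n k d} (U : Univ G) : Prop :=
  ∀ (Z : (Mst G).obj) (Ω : Type u) [Field Ω]
      (s : Spec (CommRingCat.of Ω) ⟶ Spec (CommRingCat.of k)) (_ : Z.obj.base = Over.mk s) (α α' : Z ⟶ U.obj)
      (v v' : VG G.1) (_ : ∀ z, ((Mst G).p.map α).left z = v) (_ : ∀ z, ((Mst G).p.map α').left z = v'),
      Eqv G.1 v.1 v'.1

/-- The statement of node V8. -/
def NodeV8 {G : LefPen.Form n k d} (U : Univ G) : Prop :=
  ∀ (v v' : VG G.1), Eqv G.1 v.1 v'.1 →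
      ∃ (Ω : Type u) (_ : Field Ω) (s : Spec (CommRingCat.of Ω) ⟶ Spec (CommRingCat.of k)) (Z : (Mst G).obj)
        (_ : Z.obj.base = Over.mk s) (α α' : Z ⟶ U.obj),
        (∀ z, ((Mst G).p.map α).left z = v) ∧ (∀ z, ((Mst G).p.map α').left z = v')

/-- The statement of node I1. -/
def NodeI1 (G : LefPen.Form n k d) : Prop :=
  ∀ (Ω : Type u) [Field Ω] [IsAlgClosed Ω] {C : Scheme.{u}}
    (q : C ⟶ Spec (CommRingCat.of Ω)) (c : Fin 5 → Γ(Spec (CommRingCat.of Ω), ⊤)) {L : C.Modules}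
    (x : Fin 3 → Γ(L, ⊤)) (_ : IsCon c q L x) (a : Spec (CommRingCat.of Ω) ⟶ Spec (CommRingCat.of k))
    (_ : Smooth (hypOver G).hom) (_ : G ≠ 0) (m : C ⟶ (hypOver G).left)
    (_ : m ≫ (hypOver G).hom = q ≫ a) (φ : Fin (n + 1) → Fin 3 → Γ(Spec (CommRingCat.of Ω), ⊤))
    (_ : GivenBy (m ≫ (LefPen.hypIdeal G).subschemeι) L (msec q x φ)) (_ : Unob d (kmap a) G.1 c φ),
    Subsingleton (Coh.HH C ((Scheme.Modules.pullback m).obj
      (RefHull.dual (Omega.sheaf (hypOver G).hom))) 1)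

/-- The statement of node Q4. -/
def NodeQ4 (G : LefPen.Form n k d) : Prop :=
  ∀ {M : Type (u + 1)} [TopologicalSpace M]
    (π : VG G.1 → M) (_ : Continuous π) (_ : IsOpenMap π) (_ : Function.Surjective π)
    (_ : ∀ p p' : VG G.1, π p = π p' ↔ Eqv G.1 p.1 p'.1),
    IrreducibleSpace M ∧ topologicalKrullDim M = ((3 * n - 2 * d - 2 : ℕ) : WithBot ℕ∞)

variable {G : LefPen.Form n k d}

theorem conclusion (hG : GoodG G) (hd : 1 ≤ d) (K : Kit G) (U : Univ G) (g1 : NodeG1 G) (g2 : NodeG2 G)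
    (g3 : NodeG3 G) (v5 : NodeV5 G) (v7 : NodeV7 U) (v8 : NodeV8 U) (q4 : NodeQ4 G) (i1 : NodeI1 G)
    (h12 : IsOpen {p : PrimeSpectrum (RC G.1) | UnobPt d G.1 p}) (h13 : NodeH13.{u} n d) (h14 : NodeH14.{u} n d) :
    IrreducibleSpace (AlgSt.Points (Mst G)) ∧
      topologicalKrullDim (AlgSt.Points (Mst G)) = (3 * n - 2 * d - 2 : ℕ) ∧
      ∃ W : Set (AlgSt.Points (Mst G)), IsOpen W ∧ W.Nonempty ∧
        ∀ p : AlgSt.FPt (Mst G), IsAlgClosed p.K → AlgSt.Points.mk p ∈ W →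
          Subsingleton (Coh.HH p.obj.obj.C ((Scheme.Modules.pullback p.obj.obj.map).obj
            (RefHull.dual (Omega.sheaf (hypOver G).hom))) 1) := by
  have hθ := exists_hom_univ K U v5
  have hsm : AlgSt.RepByAlgSpWith (AlgSp.LocP @Smooth) (xV U) :=
    smooth_xV U g1 v5 (fun Y D => exists_product K U Y D)
  have hc := continuous_ofChart U hsm
  have ho := isOpenMap_ofChart U hsm
  have hs := surjective g2 U (fun p => ⟨(hθ p).choose, trivial⟩)
  have he : ∀ v v' : VG G.1, AlgSt.Points.ofChart (xV U) v = AlgSt.Points.ofChart (xV U) v' ↔ Eqv G.1 v.1 v'.1 :=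
    ofChart_eq_iff g3 U v7 v8
  obtain ⟨hirr, hdim⟩ := q4 (M := AlgSt.Points (Mst G)) (AlgSt.Points.ofChart (xV U)) hc ho hs he
  have hGh : MvPolynomial.IsHomogeneous G.1 d := (MvPolynomial.mem_homogeneousSubmodule _ _).1 G.2
  refine ⟨hirr, hdim, AlgSt.Points.ofChart (xV U) '' {v : VG G.1 | UnobPt d G.1 v.1}, ho _ ?_, ?_, ?_⟩
  · exact h12.preimage (f := fun v : VG G.1 => v.1) continuous_subtype_val
  · obtain ⟨p, hp, hp'⟩ := hG.unob
    exact ⟨_, (⟨p, hp⟩ : VG G.1), hp', rfl⟩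
  · rintro p hp ⟨v, hv, hvp⟩
    obtain ⟨θ, -⟩ := hθ p
    have hsub : ∀ (B : Over (Spec (CommRingCat.of k))), B = Over.mk p.str → Subsingleton B.left := by
      rintro B rfl
      exact inferInstanceAs (Subsingleton (PrimeSpectrum p.K))
    obtain ⟨z⟩ := nonempty_left p
    have hmk := mk_eq g2 U p θ z
    let v' : VG G.1 := ((Mst G).p.map θ).left z
    have heq : Eqv G.1 v.1 v'.1 := (he v v').1 (hvp.trans hmk)
    have hu : UnobPt d G.1 v'.1 := (unobPt_of_eqv h13 h14 hd hGh heq).1 hv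
    obtain ⟨D, hD⟩ := K.exists_pull θ.hom U.dat
    have hv' : ∀ z', θ.hom.hom.base.left z' = v' := fun z' =>
      congrArg θ.hom.hom.base.left ((hsub p.obj.obj.base p.lies).elim z' z)
    have hun := unob_datum h13 hd U p.obj.obj p.K p.str p.lies θ.hom D hD v' hv' hu
    have key : ∀ (A : Fam G) (hA : A.base = Over.mk p.str) (D : Datum A), Unob d (kmap A.base.hom) G.1 D.c D.φ →
        Subsingleton (Coh.HH A.C ((Scheme.Modules.pullback A.map).obj
            (RefHull.dual (Omega.sheaf (hypOver G).hom))) 1) := by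
      intro A hA D hun
      obtain ⟨⟨base, C, f, sect, sect_f⟩, map, map_over⟩ := A
      change base = Over.mk p.str at hA
      subst hA
      exact i1 p.K f D.c D.x D.isCon p.str hG.smooth hG.ne_zero map map_over D.φ D.givenBy hun
    exact key p.obj.obj p.lies D hun

end K745.Fin'
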