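import Groth.Agent.Fano.K745.Fin
import Groth.Agent.Fano.K837.StPull
import Groth.Agent.Fano.K40.StMat
import Groth.Agent.Fano.K925.StV
import Groth.Agent.Fano.K414.StUniv
import Groth.Agent.Fano.K464.StEqv
import Groth.Agent.Fano.K705.StGen
import Groth.Agent.Fano.K227.HRem
import Groth.Agent.Fano.K423.QDim

/-!
# S16939: the geometric nodes, put together
-/

set_option autoImplicit false
set_option backward.isDefEq.respectTransparency false
set_option backward.isDefEq.respectTransparency.types false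

universe u

open CategoryTheory CategoryTheory.Limits AlgebraicGeometry

namespace K745.InstC

open K745.ConDef K745.HDef K745.StDef K745.Prod K745.Chart K745.Pts K745.UnobP K745.Fin' W4swstmapratcurves
open K655.MapPre K924.ConI

variable {k : Type u} [Field k] {n d : ℕ}

theorem v1 (G : LefPen.Form n k d) : K414.StUniv.V1Stmt G := fun T u =>
  K925.StV.reg_cAt (fun G α => K227.HRem.dvd_of_RC G α) T u

theorem kit [CharZero k] (K4a : NodeK4a.{u}) (K4b : NodeK4b.{u}) (K5c : K414.StUniv.K5cStmt.{u})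
    (K6 : K414.StUniv.K6Stmt.{u} n) (G : LefPen.Form n k d) : Kit G where
  exists_pull h D' := K837.StPull.exists_pull h D'
  comp H H' := K837.StPull.IsPull.comp H H'
  hom D D' b hc hφ := K837.StPull.existsUnique_hom D D' b hc hφ
  mat D D' := K40.StMat.existsUnique_isMat K4a D D'
  isUnit H := K40.StMat.IsMat.isUnit K4a K4b H
  change D' g hg c w hw hq := K40.StMat.exists_datum_of_matrix D' g hg c w hw hq
  matPull H H' _ hg := K40.StMat.IsMat.pull H H' hg
  cAt_comp t u i := K925.StV.cAt_comp t u i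
  φAt_comp t u l i := K925.StV.φAt_comp t u l i
  toVG T c φ hr hd := K925.StV.existsUnique_toVG (fun ρ G c φ h => K227.HRem.existsUnique_RC ρ G c φ h) T c φ hr hd
  reg A D := K414.StUniv.reg_of_datum K4b K5c K6 A D

/-- The three conclusions for a good form. -/
theorem conclusion' [IsAlgClosed k] [CharZero k] (K4a : NodeK4a.{u}) (K4b : NodeK4b.{u}) (K5c : K414.StUniv.K5cStmt.{u})
    (K6 : K414.StUniv.K6Stmt.{u} n) (K7b : K414.StUniv.K7bStmt.{u} k n) (D3 : K414.StUniv.D3Stmt.{u} k n)
    {G : LefPen.Form n k d} (hG : GoodG G) (hd : 1 ≤ d) (hdn : d + 3 ≤ n) (i1 : NodeI1 G)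
    (h12 : IsOpen {p : PrimeSpectrum (RC G.1) | UnobPt d G.1 p}) (h13 : NodeH13.{u} n d) (h14 : NodeH14.{u} n d) :
    IrreducibleSpace (AlgSt.Points (Mst G)) ∧
      topologicalKrullDim (AlgSt.Points (Mst G)) = (3 * n - 2 * d - 2 : ℕ) ∧
      ∃ W : Set (AlgSt.Points (Mst G)), IsOpen W ∧ W.Nonempty ∧
        ∀ p : AlgSt.FPt (Mst G), IsAlgClosed p.K → AlgSt.Points.mk p ∈ W →
          Subsingleton (Coh.HH p.obj.obj.C ((Scheme.Modules.pullback p.obj.obj.map).obj
            (RefHull.dual (Omega.sheaf (hypOver G).hom))) 1) := by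
  obtain ⟨U⟩ := K414.StUniv.nonempty_univ K4b K6 K7b G (v1 G)
  have K := kit K4a K4b K5c K6 G
  refine conclusion hG hd K U ?_ ?_ ?_ ?_ ?_ ?_ ?_ i1 h12 h13 h14
  · exact fun X H => K705.StGen.repByAlgSpWith_of_products X (isPrestack G) H
  · exact fun X p α z => K705.StGen.mk_eq_ofChart X (isFibGrpd G) p α z
  · exact fun X v v' => K705.StGen.ofChart_eq_iff X (isFibGrpd G) v v'
  · exact fun A t => K414.StUniv.exists_datum_nhds D3 A t
  · intro Z Ω _ s hZ α α' v v' hv hv'
    exact K464.StEqv.eqv_of_hom K.exists_pull K.mat K.isUnit U Z Ω s hZ α α' v v' hv hv'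
  · intro v v' h
    exact K464.StEqv.exists_hom_of_eqv K.exists_pull K.hom K.change U v v' h
  · intro M _ π hc ho hs he
    exact K423.QDim.irreducible_and_dim G hd hdn hG π hc ho hs he

end K745.InstC
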