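import Groth.Agent.Fano.K695.HFin
import Groth.Agent.Fano.K34.HIrr
import Groth.Agent.Fano.K22.HCon
import Groth.Agent.Fano.K724.HDim
import Groth.Agent.Fano.K271.HExH9
import Groth.Agent.Fano.K271.HExH10
import Groth.Agent.Fano.K271.HExH11
import Groth.Agent.Fano.K227.HTot
import Groth.Agent.Fano.K227.HRem

/-!
# S16939: general forms are good
-/

set_option autoImplicit false

universe u

open CategoryTheory CategoryTheory.Limits AlgebraicGeometry

namespace K745.InstH

open K745.ConDef K745.HDef W4swstmapratcurves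

variable {n d : ℕ} (k : Type u) [Field k] [IsAlgClosed k] [CharZero k]

theorem isGeneric_irreducible_dim (hd : 1 ≤ d) (hdn : d + 3 ≤ n) :
    LefPen.IsGeneric k {G : LefPen.Form n k d | IrreducibleSpace (VG G.1) ∧
      topologicalKrullDim (VG G.1) = ((3 * n + 7 - 2 * d : ℕ) : WithBot ℕ∞)} := by
  have hn : 2 ≤ n := by omega
  have : Infinite k := IsAlgClosed.instInfinite
  have H2 := K22.HCon.exists_generic_conic k hd hdn hn
  have H3 := K227.HTot.isIntegrallyClosed_total (n := n) (d := d) k hn
  have H4a := K34.HIrr.geometricallyIrreducible_generic k hn H2 H3 (fun ρ G c φ h => K227.HRem.existsUnique_RC ρ G c φ h)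
  have H4b := K34.HIrr.isGeneric_irreducibleSpace_RD (fun G => K227.HRem.exists_ringEquiv_RC G) hn H4a
  exact K695.HFin.isGeneric_irreducible_dim k hd hdn hn H4b (fun G p hp => K724.HDim.le_ringKrullDim_quotient G p hp)
    (K724.HDim.isGeneric_bad hdn hn) (K724.HDim.isGeneric_ringKrullDim_RD_le hdn hn)

/-- General forms are good. -/
theorem isGeneric_goodG (hd : 1 ≤ d) (hdn : d + 3 ≤ n) :
    LefPen.IsGeneric k {G : LefPen.Form n k d | GoodG G} :=
  K695.HFin.isGeneric_goodG k (isGeneric_irreducible_dim k hd hdn) (K271.HEx.isGeneric_unobPt hd hdn)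
    (K271.HEx.isGeneric_slice hd hdn) (K271.HEx.isGeneric_smooth hd hdn)

end K745.InstH
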