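import Groth.Agent.Fano.K745.InstC
import Groth.Agent.Fano.K745.InstH
import Groth.Agent.Fano.K949.ConB
import Groth.Agent.Fano.K398.ConGen
import Groth.Agent.Fano.K398.ConFam
import Groth.Agent.Fano.K247.ConH
import Groth.Agent.Fano.K227.HUn
import Groth.Agent.Fano.K876.ConC
import Groth.Agent.Fano.K666.ConG
import Groth.Agent.Fano.K385.ConJ

/-!
# S16939: the final theorem
-/

set_option autoImplicit false
set_option backward.isDefEq.respectTransparency false
set_option backward.isDefEq.respectTransparency.types false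

universe u

open CategoryTheory CategoryTheory.Limits AlgebraicGeometry

namespace K745.Main

open K745.ConDef K745.HDef K745.StDef K745.Prod K745.Chart K745.Pts K745.UnobP K745.Fin' W4swstmapratcurves
open K655.MapPre K924.ConI K188.LineDef

variable {k : Type u} [Field k] {n d : ℕ}

theorem k5c : K414.StUniv.K5cStmt.{u} := fun Ω _ _ _ q c _ x h _ hn => K876.ConC.exists_disc3_ne_zero Ω q c x h hn

theorem k7b [CharZero k] : K414.StUniv.K7bStmt.{u} k n :=
  fun qT _ _ _ _ h φ hr μ hμ hs => K398.ConFam.isStableMapFam qT h φ hr μ hμ hs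

theorem d3 [CharZero k] : K414.StUniv.D3Stmt.{u} k n :=
  fun qT f μ hμ hst hdeg t => K247.ConH.exists_isCon_nhds_aux
    (fun Ω _ _ _ C q c L x h hn => by
      haveI : NeZero (2 : Ω) := ⟨two_ne_zero⟩
      exact k5c Ω q c x h hn)
    (fun Ω _ _ _ C q p μ a ha h hdeg => K666.ConG.exists_isCon_of_isStableMap Ω q p μ a ha h hdeg) qT f μ hμ hst hdeg t

theorem i1 [IsAlgClosed k] [CharZero k] (G : LefPen.Form n k d) : NodeI1 G :=
  fun Ω _ _ _ q c _ x h a hG hG0 m hm φ hs hu => K385.ConJ.subsingleton_HH Ω q c x h a G hG hG0 m hm φ hs hu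

theorem main [IsAlgClosed k] [CharZero k] (hd : 1 ≤ d) (hdn : d + 3 ≤ n) :
    LefPen.IsGeneric k {G : LefPen.Form n k d | IrreducibleSpace (AlgSt.Points (Mst G)) ∧
      topologicalKrullDim (AlgSt.Points (Mst G)) = (3 * n - 2 * d - 2 : ℕ) ∧
      ∃ W : Set (AlgSt.Points (Mst G)), IsOpen W ∧ W.Nonempty ∧
        ∀ p : AlgSt.FPt (Mst G), IsAlgClosed p.K → AlgSt.Points.mk p ∈ W →
          Subsingleton (Coh.HH p.obj.obj.C ((Scheme.Modules.pullback p.obj.obj.map).obj
            (RefHull.dual (Omega.sheaf (hypOver G).hom))) 1)} := by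
  refine Groth.Agent.Lefpen.H702.PolyFun.IsGeneric.mono (K745.InstH.isGeneric_goodG k hd hdn) fun G hG => ?_
  have hGh : MvPolynomial.IsHomogeneous G.1 d := (MvPolynomial.mem_homogeneousSubmodule _ _).1 G.2
  exact K745.InstC.conclusion' (fun h s => K949.ConB.existsUnique_sec h s) (fun h _ F hF => K949.ConB.van_iff_dvd h F hF)
    k5c (fun h φ => K398.ConGen.gens_msec_iff h φ) k7b d3 hG hd hdn (i1 G)
    (K227.HUn.isOpen_unobPt G.1 hd hGh) (fun ρ β G hd hG c φ => K227.HUn.unob_map_iff ρ β G hd hG c φ)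
    (fun ρ G c c' φ φ' g hg w hw hq hφ => K227.HUn.unob_iff_of_matrix ρ G c c' φ φ' g hg w hw hq hφ)

end K745.Main
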