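import Groth.Agent.Fano.K745.ConDef

/-!
# Ternary quadratic forms and matrices

* `qv c v`, `bl c v w`: the value of the form `qf c` and the value of its polar form;
* `comp3_qf`: the coefficients of `qf c ∘ g`;
* `chg c g w'`: the coefficients of `w' (qf c ∘ g)`; `comp3_qf_eq`, `eq_of_comp3_eq`.
-/

set_option autoImplicit false

universe u

open MvPolynomial

namespace K745.MatAlg

open K745.ConDef

variable {A B : Type u} [CommRing A] [CommRing B]

/-- The value of the quadratic form. -/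
def qv (c : Fin 5 → A) (v : Fin 3 → A) : A :=
  v 0 ^ 2 + c 0 * (v 0 * v 1) + c 1 * (v 0 * v 2) + c 2 * v 1 ^ 2 + c 3 * (v 1 * v 2) + c 4 * v 2 ^ 2

/-- The value of the polar form. -/
def bl (c : Fin 5 → A) (v w : Fin 3 → A) : A :=
  2 * (v 0 * w 0) + c 0 * (v 0 * w 1 + v 1 * w 0) + c 1 * (v 0 * w 2 + v 2 * w 0) + 2 * c 2 * (v 1 * w 1) +
    c 3 * (v 1 * w 2 + v 2 * w 1) + 2 * c 4 * (v 2 * w 2)

theorem map_qv (h : A →+* B) (c : Fin 5 → A) (v : Fin 3 → A) :
    h (qv c v) = qv (fun i => h (c i)) (fun i => h (v i)) := by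
  simp [qv]

theorem comp3_qf (c : Fin 5 → A) (g : Matrix (Fin 3) (Fin 3) A) :
    comp3 (qf c) g = C (qv c fun i => g i 0) * X 0 ^ 2 + C (bl c (fun i => g i 0) fun i => g i 1) * (X 0 * X 1) +
      C (bl c (fun i => g i 0) fun i => g i 2) * (X 0 * X 2) + C (qv c fun i => g i 1) * X 1 ^ 2 +
      C (bl c (fun i => g i 1) fun i => g i 2) * (X 1 * X 2) + C (qv c fun i => g i 2) * X 2 ^ 2 := by
  simp only [comp3, qf, lin3, Fin.sum_univ_three, map_add, map_mul, map_pow, aeval_X, aeval_C, algebraMap_eq, qv, bl,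
    map_ofNat]
  ring

/-- The coefficients of the form `w' (qf c ∘ g)`. -/
def chg (c : Fin 5 → A) (g : Matrix (Fin 3) (Fin 3) A) (w' : A) : Fin 5 → A :=
  ![w' * bl c (fun i => g i 0) fun i => g i 1, w' * bl c (fun i => g i 0) fun i => g i 2, w' * qv c fun i => g i 1,
    w' * bl c (fun i => g i 1) fun i => g i 2, w' * qv c fun i => g i 2]

theorem comp3_qf_eq (c : Fin 5 → A) (g : Matrix (Fin 3) (Fin 3) A) (w' : A) (h : w' * qv c (fun i => g i 0) = 1) :
    comp3 (qf c) g = C (qv c fun i => g i 0) * qf (chg c g w') := by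
  have h' : ∀ a : A, a = qv c (fun i => g i 0) * (w' * a) := fun a => by
    rw [← mul_assoc, mul_comm (qv c _), h, one_mul]
  rw [comp3_qf]
  conv_lhs =>
    rw [h' (bl c (fun i => g i 0) fun i => g i 1), h' (bl c (fun i => g i 0) fun i => g i 2), h' (qv c fun i => g i 1),
      h' (bl c (fun i => g i 1) fun i => g i 2), h' (qv c fun i => g i 2)]
  simp only [qf, chg, map_mul, Matrix.cons_val_zero, Matrix.cons_val_one, Matrix.cons_val]
  ring

/-- The coefficients of a general ternary quadratic form are determined by the form. -/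
theorem coeffs_unique {a a' : Fin 6 → A}
    (h : C (a 0) * X 0 ^ 2 + C (a 1) * (X 0 * X 1) + C (a 2) * (X 0 * X 2) + C (a 3) * X 1 ^ 2 +
      C (a 4) * (X 1 * X 2) + C (a 5) * X 2 ^ 2 =
      (C (a' 0) * X 0 ^ 2 + C (a' 1) * (X 0 * X 1) + C (a' 2) * (X 0 * X 2) + C (a' 3) * X 1 ^ 2 +
      C (a' 4) * (X 1 * X 2) + C (a' 5) * X 2 ^ 2 : MvPolynomial (Fin 3) A)) : a = a' := by
  have e : ∀ v : Fin 3 → A, a 0 * v 0 ^ 2 + a 1 * (v 0 * v 1) + a 2 * (v 0 * v 2) + a 3 * v 1 ^ 2 +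
      a 4 * (v 1 * v 2) + a 5 * v 2 ^ 2 = a' 0 * v 0 ^ 2 + a' 1 * (v 0 * v 1) + a' 2 * (v 0 * v 2) + a' 3 * v 1 ^ 2 +
      a' 4 * (v 1 * v 2) + a' 5 * v 2 ^ 2 := fun v => by
    have := congrArg (eval v) h
    simpa using this
  have h0 : a 0 = a' 0 := by simpa using e ![1, 0, 0]
  have h3 : a 3 = a' 3 := by simpa using e ![0, 1, 0]
  have h5 : a 5 = a' 5 := by simpa using e ![0, 0, 1]
  have h1 : a 1 = a' 1 := by simpa [h0, h3] using e ![1, 1, 0]
  have h2 : a 2 = a' 2 := by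
    have := e ![1, 0, 1]
    simp only [Matrix.cons_val_zero, Matrix.cons_val_one, Matrix.cons_val, h0, h5] at this
    linear_combination this
  have h4 : a 4 = a' 4 := by
    have := e ![0, 1, 1]
    simp only [Matrix.cons_val_zero, Matrix.cons_val_one, Matrix.cons_val, h3, h5] at this
    linear_combination this
  ext i
  fin_cases i
  exacts [h0, h1, h2, h3, h4, h5]

theorem coeffs_of_comp3_eq {c c' : Fin 5 → A} {g : Matrix (Fin 3) (Fin 3) A} {w : A}
    (h : comp3 (qf c) g = C w * qf c') :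
    qv c (fun i => g i 0) = w ∧ ∀ w', w' * w = 1 → c' = chg c g w' := by
  rw [comp3_qf] at h
  have h1 := coeffs_unique (a := ![qv c fun i => g i 0, bl c (fun i => g i 0) fun i => g i 1,
    bl c (fun i => g i 0) fun i => g i 2, qv c fun i => g i 1, bl c (fun i => g i 1) fun i => g i 2,
    qv c fun i => g i 2]) (a' := ![w, w * c' 0, w * c' 1, w * c' 2, w * c' 3, w * c' 4]) (by
      simp only [Matrix.cons_val_zero, Matrix.cons_val_one, Matrix.cons_val]
      rw [h]
      simp only [qf, map_mul]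
      ring)
  refine ⟨congrFun h1 0, fun w' hw' => ?_⟩
  have h' : ∀ a : A, a = w' * (w * a) := fun a => by rw [← mul_assoc, hw', one_mul]
  ext i
  fin_cases i
  · exact (h' _).trans (congrArg (w' * ·) (congrFun h1 1).symm)
  · exact (h' _).trans (congrArg (w' * ·) (congrFun h1 2).symm)
  · exact (h' _).trans (congrArg (w' * ·) (congrFun h1 3).symm)
  · exact (h' _).trans (congrArg (w' * ·) (congrFun h1 4).symm)
  · exact (h' _).trans (congrArg (w' * ·) (congrFun h1 5).symm)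

/-- The equation of the transformed conic is unique. -/
theorem eq_of_comp3_eq {c c₁ c₂ : Fin 5 → A} {g : Matrix (Fin 3) (Fin 3) A} {w₁ w₂ : A} (hw : IsUnit w₁)
    (h₁ : comp3 (qf c) g = C w₁ * qf c₁) (h₂ : comp3 (qf c) g = C w₂ * qf c₂) : c₁ = c₂ := by
  obtain ⟨e1, f1⟩ := coeffs_of_comp3_eq h₁
  obtain ⟨e2, f2⟩ := coeffs_of_comp3_eq h₂
  obtain rfl : w₁ = w₂ := e1.symm.trans e2
  obtain ⟨w', hw'⟩ := hw.exists_left_inv
  rw [f1 w' hw', f2 w' hw']

end K745.MatAlg
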