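import Groth.Agent.Fano.K745.StDef
import Groth.Agent.Fano.K745.MatAlg
import Groth.Agent.Pi1.H413.SecChart

/-!
# The space of invertible matrices `g` such that `qf c ∘ g` has an invertible first coefficient
-/

set_option autoImplicit false

universe u

open CategoryTheory CategoryTheory.Limits AlgebraicGeometry

namespace K745.MatSpace

open K745.ConDef K745.StDef K745.MatAlg

theorem isUnit_of_basicOpen_eq_top {X : Scheme.{u}} (f : Γ(X, ⊤)) (h : X.basicOpen f = ⊤) : IsUnit f := by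
  have h1 := RingedSpace.isUnit_res_basicOpen X.toRingedSpace f
  have h2 : ∀ (U : X.Opens) (i : U ⟶ ⊤), U = ⊤ → IsUnit (X.presheaf.map i.op f) → IsUnit f := by
    intro U i hU
    subst hU
    intro h
    have : i = 𝟙 _ := Subsingleton.elim _ _
    subst this
    simpa using h
  exact h2 _ (homOfLE le_top) h h1

theorem pb_comp {T T' T'' : Scheme.{u}} (h : T ⟶ T') (h' : T' ⟶ T'') (a : Γ(T'', ⊤)) :
    pb (h ≫ h') a = pb h (pb h' a) := by
  change (h ≫ h').appTop a = _
  rw [Scheme.Hom.comp_appTop]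
  rfl

theorem exists_matSpace {B : Scheme.{u}} (c : Fin 5 → Γ(B, ⊤)) :
    ∃ (W : Scheme.{u}) (w : W ⟶ B) (gW : Matrix (Fin 3) (Fin 3) Γ(W, ⊤)), Smooth w ∧ IsUnit gW.det ∧
      IsUnit (qv (fun i => pb w (c i)) (fun i => gW i 0)) ∧
      (∀ (T : Scheme.{u}) (t : T ⟶ B) (g : Matrix (Fin 3) (Fin 3) Γ(T, ⊤)), IsUnit g.det →
        IsUnit (qv (fun i => pb t (c i)) (fun i => g i 0)) → ∃ h : T ⟶ W, h ≫ w = t ∧ gW.map (pb h) = g) ∧
      ∀ (T : Scheme.{u}) (h h' : T ⟶ W), h ≫ w = h' ≫ w → gW.map (pb h) = gW.map (pb h') → h = h' := by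
  let ι : Type u := ULift.{u} (Fin 3 × Fin 3)
  let E : Scheme.{u} := 𝔸(ι; B)
  let a : E ⟶ B := 𝔸(ι; B) ↘ B
  have ha : Smooth a := Groth.Agent.Pi1.H413.SecChart.smooth_affineSpace _ _
  let gg : Matrix (Fin 3) (Fin 3) Γ(E, ⊤) := Matrix.of fun i j => AffineSpace.coord B (⟨(i, j)⟩ : ι)
  let r : Γ(E, ⊤) := gg.det * qv (fun i => pb a (c i)) (fun i => gg i 0)
  let O : E.Opens := E.basicOpen r
  let gW : Matrix (Fin 3) (Fin 3) Γ(O.toScheme, ⊤) := gg.map (pb O.ι)
  have key : ∀ {T : Scheme.{u}} (t : T ⟶ E), pb t r = (gg.map (pb t)).det *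
      qv (fun i => pb (t ≫ a) (c i)) (fun i => gg.map (pb t) i 0) := by
    intro T t
    have h1 : pb t r = pb t gg.det * pb t (qv (fun i => pb a (c i)) (fun i => gg i 0)) := map_mul _ _ _
    have h2 : pb t gg.det = (gg.map (pb t)).det := RingHom.map_det t.appTop.hom gg
    have h3 : pb t (qv (fun i => pb a (c i)) (fun i => gg i 0)) =
        qv (fun i => pb (t ≫ a) (c i)) (fun i => gg.map (pb t) i 0) := by
      refine (map_qv t.appTop.hom _ _).trans ?_
      exact congrArg (fun z => qv z _) (funext fun i => (pb_comp t a (c i)).symm)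
    rw [h1, h2, h3]
  have hu : IsUnit (pb O.ι r) := by
    apply isUnit_of_basicOpen_eq_top
    have h1 : O.ι ⁻¹ᵁ (E.basicOpen r) = O.toScheme.basicOpen (pb O.ι r) := Scheme.preimage_basicOpen_top O.ι r
    rw [← h1]
    exact O.ι_preimage_self
  rw [key] at hu
  refine ⟨O.toScheme, O.ι ≫ a, gW, inferInstance, isUnit_of_mul_isUnit_left hu, isUnit_of_mul_isUnit_right hu, ?_, ?_⟩
  · intro T t g hg hq
    let s : T ⟶ E := AffineSpace.homOfVector t (fun p => g p.down.1 p.down.2)
    have hs : s ≫ a = t := AffineSpace.homOfVector_over _ _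
    have hsg : gg.map (pb s) = g := by
      ext i j
      exact AffineSpace.homOfVector_appTop_coord t (fun p : ι => g p.down.1 p.down.2) ⟨(i, j)⟩
    have hsr : IsUnit (pb s r) := by
      rw [key, hsg, hs]
      exact hg.mul hq
    obtain ⟨h, hh⟩ := K390.PnSec.exists_lift_of_preimage_eq_top s O (by
      have h1 : s ⁻¹ᵁ (E.basicOpen r) = T.basicOpen (pb s r) := Scheme.preimage_basicOpen_top s r
      rw [h1]
      exact Scheme.basicOpen_of_isUnit _ hsr)
    refine ⟨h, by rw [← Category.assoc, hh, hs], ?_⟩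
    ext i j
    have h2 : gW.map (pb h) i j = pb h (pb O.ι (gg i j)) := rfl
    rw [h2, ← pb_comp, hh]
    exact congrFun (congrFun hsg i) j
  · intro T h h' hw hg
    rw [← cancel_mono O.ι]
    refine AffineSpace.hom_ext ?_ ?_
    · rw [Category.assoc, Category.assoc]
      exact hw
    · rintro ⟨i, j⟩
      have h2 := congrFun (congrFun hg i) j
      have h3 : ∀ h : T ⟶ O.toScheme, gW.map (pb h) i j = pb (h ≫ O.ι) (gg i j) := fun h => (pb_comp _ _ _).symm
      rw [h3, h3] at h2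
      exact h2

end K745.MatSpace
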