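import Groth.Agent.Fano.K745.HDef
import Mathlib.AlgebraicGeometry.Geometrically.Irreducible

/-!
# Plan for S16939 (conics on a general hypersurface), algebraic part

All `sorry`s of this file are nodes; do not import this file in a row.  Definitions: `K745.ConDef`, `K745.HDef`.
`k[g] = MvPolynomial (FI n d) k` is the ring of the coefficients, `FU n d k` the universal form; `RC (FU n d k)` is the ring of the
total space `{(G, c, φ) : qf c ∣ G ∘ φ}`, `del φ` the determinant of the first three rows of `φ`.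
-/

set_option autoImplicit false

universe u

open CategoryTheory CategoryTheory.Limits AlgebraicGeometry

namespace K745.PlanH

open K745.ConDef K745.HDef W4swstmapratcurves Groth.Agent.Lefpen.H701

variable {n d : ℕ}

/-! ## Fields -/

section Fields

variable (k : Type u) [Field k] [CharZero k]

/-- Node H1: the generic pointed line on the generic hypersurface; the field of the coefficients is algebraically closed in
its field of definition. -/
theorem exists_generic_line (hd : 1 ≤ d) (hdn : d + 3 ≤ n) :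
    ∃ (Y : Type u) (_ : Field Y) (_ : Algebra k Y) (γ : FI n d → Y) (x a : Fin (n + 1) → Y),
      AlgebraicIndependent k γ ∧
      (∀ z : Y, IsAlgebraic (IntermediateField.adjoin k (Set.range γ)) z →
        z ∈ IntermediateField.adjoin k (Set.range γ)) ∧
      LinearIndependent Y ![x, a] ∧
      MvPolynomial.aeval (fun l => (MvPolynomial.C (x l) * MvPolynomial.X 0 +
        MvPolynomial.C (a l) * MvPolynomial.X 1 : MvPolynomial (Fin 2) Y)) (formOf γ) = 0 := by
  sorry

/-- Node H2 (from H1): a double line in a plane, on the generic hypersurface. -/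
theorem exists_generic_conic (hd : 1 ≤ d) (hdn : d + 3 ≤ n) (hn : 2 ≤ n) :
    ∃ (Y : Type u) (_ : Field Y) (_ : Algebra k Y) (γ : FI n d → Y) (c : Fin 5 → Y) (φ : Fin (n + 1) → Fin 3 → Y),
      AlgebraicIndependent k γ ∧
      (∀ z : Y, IsAlgebraic (IntermediateField.adjoin k (Set.range γ)) z →
        z ∈ IntermediateField.adjoin k (Set.range γ)) ∧
      del hn φ ≠ 0 ∧ qf c ∣ subF (RingHom.id Y) (formOf γ) φ := by
  sorry

end Fields

/-! ## The total space -/

section Total

/-- Node H3: the total space is normal where the first three rows of `φ` are independent. -/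
theorem isIntegrallyClosed_total (k : Type u) [Field k] (hn : 2 ≤ n) :
    IsDomain (RD hn (FU n d k)) ∧ IsIntegrallyClosed (RD hn (FU n d k)) := by
  sorry

/-- Node H4a (from H2, H3): the generic fibre of the total space is geometrically irreducible. -/
theorem geometricallyIrreducible_generic (k : Type u) [Field k] [CharZero k] (hd : 1 ≤ d) (hdn : d + 3 ≤ n)
    (hn : 2 ≤ n) :
    GeometricallyIrreducible ((Spec.map (CommRingCat.ofHom
      (algebraMap (MvPolynomial (FI n d) k) (RD hn (FU n d k))))).fiberToSpecResidueField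
        (genericPoint (Spec (CommRingCat.of (MvPolynomial (FI n d) k))))) := by
  sorry

/-- Node H3b: the formation of `RC G` commutes with base change. -/
theorem exists_ringEquiv_RC {R R' : Type u} [CommRing R] [CommRing R'] [Algebra R R']
    (G : MvPolynomial (Fin (n + 1)) R) :
    ∃ e : TensorProduct R R' (RC G) ≃ₐ[R'] RC (G.map (algebraMap R R')),
      ∀ a : AC n R, e (1 ⊗ₜ mkR G a) = mkR (G.map (algebraMap R R')) (MvPolynomial.map (algebraMap R R') a) := by
  sorry

end Total

/-! ## The general fibre -/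

section General

variable (k : Type u) [Field k]

/-- Node H4b (from H4a). -/
theorem isGeneric_irreducibleSpace_RD [IsAlgClosed k] [CharZero k] (hd : 1 ≤ d) (hdn : d + 3 ≤ n) (hn : 2 ≤ n) :
    LefPen.IsGeneric k {G : LefPen.Form n k d | IrreducibleSpace (PrimeSpectrum (RD hn G.1))} := by
  sorry

/-- Node H5: lower bound for the dimension (there are `2 d + 1` equations in `3 n + 8` unknowns). -/
theorem le_ringKrullDim_quotient (hdn : d + 3 ≤ n) (G : LefPen.Form n k d) (p : Ideal (RC G.1))
    (hp : p ∈ minimalPrimes (RC G.1)) : ((3 * n + 7 - 2 * d : ℕ) : WithBot ℕ∞) ≤ ringKrullDim (RC G.1 ⧸ p) := by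
  sorry

/-- Node H6: upper bound for the dimension of the bad locus. -/
theorem isGeneric_bad [IsAlgClosed k] [CharZero k] (hd : 1 ≤ d) (hdn : d + 3 ≤ n) (hn : 2 ≤ n) :
    LefPen.IsGeneric k {G : LefPen.Form n k d | ∀ p : PrimeSpectrum (RC G.1),
      (p ∈ VO G.1 ∧ mkR G.1 (del hn (φU n k)) ∈ p.asIdeal) ∨
        (mkR G.1 (del hn (φU n k)) ∉ p.asIdeal ∧ ∀ i, mkR G.1 (disc3 (cU n k) i) ∈ p.asIdeal) →
      ringKrullDim (RC G.1 ⧸ p.asIdeal) ≤ ((3 * n + 6 - 2 * d : ℕ) : WithBot ℕ∞)} := by
  sorry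

/-- Node H7: upper bound for the dimension of the good part. -/
theorem isGeneric_ringKrullDim_RD_le [IsAlgClosed k] [CharZero k] (hd : 1 ≤ d) (hdn : d + 3 ≤ n) (hn : 2 ≤ n) :
    LefPen.IsGeneric k {G : LefPen.Form n k d |
      ringKrullDim (RD hn G.1) ≤ ((3 * n + 7 - 2 * d : ℕ) : WithBot ℕ∞)} := by
  sorry

/-- Node H8 (from H4b - H7). -/
theorem isGeneric_irreducible_dim [IsAlgClosed k] [CharZero k] (hd : 1 ≤ d) (hdn : d + 3 ≤ n) :
    LefPen.IsGeneric k {G : LefPen.Form n k d | IrreducibleSpace (VG G.1) ∧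
      topologicalKrullDim (VG G.1) = ((3 * n + 7 - 2 * d : ℕ) : WithBot ℕ∞)} := by
  sorry

/-- Node H9: a general hypersurface contains an unobstructed conic. -/
theorem isGeneric_unobPt [IsAlgClosed k] [CharZero k] (hd : 1 ≤ d) (hdn : d + 3 ≤ n) :
    LefPen.IsGeneric k {G : LefPen.Form n k d | ∃ p ∈ VO G.1, UnobPt d G.1 p} := by
  sorry

/-- Node H10: the slice has the expected dimension. -/
theorem isGeneric_slice [IsAlgClosed k] [CharZero k] (hd : 1 ≤ d) (hdn : d + 3 ≤ n) :
    LefPen.IsGeneric k {G : LefPen.Form n k d |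
      ((3 * n - 2 * d - 2 : ℕ) : WithBot ℕ∞) ≤ topologicalKrullDim (SG G.1)} := by
  sorry

/-- Node H11: general hypersurfaces are smooth. -/
theorem isGeneric_smooth [IsAlgClosed k] [CharZero k] (hd : 1 ≤ d) (hdn : d + 3 ≤ n) :
    LefPen.IsGeneric k {G : LefPen.Form n k d | G ≠ 0 ∧ Smooth (hypOver G).hom} := by
  sorry

end General

/-! ## Unobstructedness -/

section Unob

/-- Node H12: openness. -/
theorem isOpen_unobPt {R : Type u} [CommRing R] (G : MvPolynomial (Fin (n + 1)) R) (hd : 1 ≤ d)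
    (hG : G.IsHomogeneous d) : IsOpen {p : PrimeSpectrum (RC G) | UnobPt d G p} := by
  sorry

/-- Node H13: extension of the field. -/
theorem unob_map_iff {R K K' : Type u} [CommRing R] [Field K] [Field K'] (ρ : R →+* K) (β : K →+* K')
    (G : MvPolynomial (Fin (n + 1)) R) (hd : 1 ≤ d) (hG : G.IsHomogeneous d) (c : Fin 5 → K)
    (φ : Fin (n + 1) → Fin 3 → K) :
    Unob d (β.comp ρ) G (fun i => β (c i)) (fun l i => β (φ l i)) ↔ Unob d ρ G c φ := by
  sorry

/-- Node H14: change of coordinates. -/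
theorem unob_iff_of_matrix {R K : Type u} [CommRing R] [CommRing K] (ρ : R →+* K)
    (G : MvPolynomial (Fin (n + 1)) R) (c c' : Fin 5 → K) (φ φ' : Fin (n + 1) → Fin 3 → K)
    (g : Matrix (Fin 3) (Fin 3) K) (hg : IsUnit g.det) (w : K) (hw : IsUnit w)
    (hq : comp3 (qf c') g = MvPolynomial.C w * qf c) (hφ : ∀ l j, φ l j = ∑ i, φ' l i * g i j) :
    Unob d ρ G c φ ↔ Unob d ρ G c' φ' := by
  sorry

/-- Node H15: `qf c` divides `F` iff the coefficients of the remainder vanish, and the latter commute with ring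
homomorphisms. -/
theorem dvd_iff_remCoeff {A : Type u} [CommRing A] (c : Fin 5 → A) (F : MvPolynomial (Fin 3) A) :
    qf c ∣ F ↔ ∀ m e, remCoeff c F m e = 0 := by
  sorry

theorem map_remCoeff {A B : Type u} [CommRing A] [CommRing B] (β : A →+* B) (c : Fin 5 → A)
    (F : MvPolynomial (Fin 3) A) (m : ℕ) (e : Fin 2 →₀ ℕ) :
    β (remCoeff c F m e) = remCoeff (fun i => β (c i)) (F.map β) m e := by
  sorry

/-- Node H16: homomorphisms from `RC G`. -/
theorem existsUnique_RC {R B : Type u} [CommRing R] [CommRing B] (ρ : R →+* B) (G : MvPolynomial (Fin (n + 1)) R)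
    (c : Fin 5 → B) (φ : Fin (n + 1) → Fin 3 → B) (h : qf c ∣ subF ρ G φ) :
    ∃! α : RC G →+* B, α.comp (algebraMap R (RC G)) = ρ ∧ (∀ i, α (mkR G (cU n R i)) = c i) ∧
      ∀ l i, α (mkR G (φU n R l i)) = φ l i := by
  sorry

theorem dvd_of_RC {R B : Type u} [CommRing R] [CommRing B] (G : MvPolynomial (Fin (n + 1)) R)
    (α : RC G →+* B) : qf (fun i => α (mkR G (cU n R i))) ∣
      subF (α.comp (algebraMap R (RC G))) G (fun l i => α (mkR G (φU n R l i))) := by
  sorry

end Unob

/-! ## The quotient by the group of coordinate changes -/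

section Quot

/-- From H8 - H11. -/
theorem isGeneric_goodG (k : Type u) [Field k] [IsAlgClosed k] [CharZero k] (hd : 1 ≤ d) (hdn : d + 3 ≤ n) :
    LefPen.IsGeneric k {G : LefPen.Form n k d | GoodG G} := by
  sorry

variable {k : Type u} [Field k] [IsAlgClosed k] [CharZero k] (G : LefPen.Form n k d)

/-- Node Q1: irreducible components of closed subsets stable under coordinate changes have dimension at least nine. -/
theorem nine_le_ringKrullDim (Z : Set (PrimeSpectrum (RC G.1))) (hZ : IsClosed Z)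
    (hsat : ∀ p ∈ Z, p ∈ VO G.1 → ∀ p' ∈ VO G.1, Eqv G.1 p p' → p' ∈ Z) (p : PrimeSpectrum (RC G.1))
    (hp : p ∈ Z) (hpV : p ∈ VO G.1) (hmin : ∀ q ∈ Z, q ≤ p → q = p) :
    (9 : WithBot ℕ∞) ≤ ringKrullDim (RC G.1 ⧸ p.asIdeal) := by
  sorry

/-- Node Q2: the slice meets an equivalence class at most once. -/
theorem eq_of_eqv (p p' : PrimeSpectrum (RC G.1)) (hp : p ∈ SG G.1) (hp' : p' ∈ SG G.1) (h : Eqv G.1 p p') :
    p = p' := by
  sorry

/-- Node Q3: the saturation of an open subset of the slice is open. -/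
theorem isOpen_saturation (hn : 2 ≤ n) (W : Set (PrimeSpectrum (RC G.1))) (hW : IsOpen W) :
    IsOpen {p : PrimeSpectrum (RC G.1) | p ∈ VO G.1 ∧ ∃ s ∈ SG G.1, s ∈ W ∧ Eqv G.1 s p} := by
  sorry

/-- Node Q4 (from Q1 - Q3): the dimension of the quotient. -/
theorem irreducible_and_dim (hd : 1 ≤ d) (hdn : d + 3 ≤ n) (hG : GoodG G) {M : Type*} [TopologicalSpace M]
    (π : VG G.1 → M) (hc : Continuous π) (ho : IsOpenMap π) (hs : Function.Surjective π)
    (he : ∀ p p' : VG G.1, π p = π p' ↔ Eqv G.1 p.1 p'.1) :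
    IrreducibleSpace M ∧ topologicalKrullDim M = ((3 * n - 2 * d - 2 : ℕ) : WithBot ℕ∞) := by
  sorry

end Quot

end K745.PlanH
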