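import Groth.Agent.Fano.K745.StDef
import Groth.Agent.Fano.K745.HDef

/-!
# Plan for S16939 (conics on a general hypersurface), stack part

All `sorry`s of this file are nodes; do not import this file in a row.  Definitions: `K745.ConDef`, `K745.StDef`, `K745.HDef`.
-/

set_option autoImplicit false

universe w u

open CategoryTheory CategoryTheory.Limits AlgebraicGeometry

namespace K745.PlanS

open K390.PnSec Groth.Agent.Fdesc.LocGen K188.LineDef K745.ConDef K745.HDef K745.StDef W4swstmapratcurves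

/-! ## G : charts and points of categories fibred in groupoids -/

section General

variable {S : Scheme.{u}} {𝒳 : BasedCategory.{u, w} (Over S)} {U : Over S} (X : FibCat.overCat U ⥤ᵇ 𝒳)

/-- Node G1: a chart all of whose products with objects of the category (locally on the base of the object) exist and have a
projection with property `Q` on bases is representable with `Q`.  (Case `Q` = smooth is enough.) -/
theorem repByAlgSpWith_of_products (hs : Stk.IsPrestack (AlgSp.J S) 𝒳)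
    (H : ∀ (Y : 𝒳.obj) (t : (𝒳.p.obj Y).left), ∃ (Y' : 𝒳.obj) (g : Y' ⟶ Y) (t' : (𝒳.p.obj Y').left) (Z : 𝒳.obj)
      (α : Z ⟶ X.obj (Over.mk (𝟙 U))) (β : Z ⟶ Y'), Etale (𝒳.p.map g).left ∧ (𝒳.p.map g).left t' = t ∧
      (∀ (Z' : 𝒳.obj) (a : Z' ⟶ X.obj (Over.mk (𝟙 U))) (b : Z' ⟶ Y'), ∃! z : Z' ⟶ Z, z ≫ α = a ∧ z ≫ β = b) ∧
      Smooth (𝒳.p.map β).left) :
    AlgSt.RepByAlgSpWith (AlgSp.LocP @Smooth) X := by
  sorry

/-- Node G2. -/
theorem mk_eq_ofChart (h𝒳 : FibCat.IsFibGrpd 𝒳.p) (p : AlgSt.FPt 𝒳) (α : p.obj ⟶ X.obj (Over.mk (𝟙 U)))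
    (z : (𝒳.p.obj p.obj).left) :
    AlgSt.Points.mk p = AlgSt.Points.ofChart X ((𝒳.p.map α ≫ eqToHom (X.w_obj (Over.mk (𝟙 U)))).left z) := by
  sorry

/-- Node G3. -/
theorem ofChart_eq_iff (h𝒳 : FibCat.IsFibGrpd 𝒳.p) (v v' : U.left) :
    AlgSt.Points.ofChart X v = AlgSt.Points.ofChart X v' ↔
      ∃ (r : AlgSt.FPt 𝒳) (α α' : r.obj ⟶ X.obj (Over.mk (𝟙 U))),
        (∀ z, (𝒳.p.map α ≫ eqToHom (X.w_obj (Over.mk (𝟙 U)))).left z = v) ∧
        (∀ z, (𝒳.p.map α' ≫ eqToHom (X.w_obj (Over.mk (𝟙 U)))).left z = v') := by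
  sorry

end General

variable {k : Type u} [Field k] {n d : ℕ} {G : LefPen.Form n k d}

/-! ## P : families of maps from conics -/

section P

/-- Node P1 (from K2b). -/
theorem exists_pull {A A' : Fam G} (h : A ⟶ A') (D' : Datum A') : ∃ D : Datum A, IsPull D D' h := by
  sorry

theorem IsPull.comp {A A' A'' : Fam G} {D : Datum A} {D' : Datum A'} {D'' : Datum A''} {h : A ⟶ A'} {h' : A' ⟶ A''}
    (H : IsPull D D' h) (H' : IsPull D' D'' h') : IsPull D D'' (h ≫ h') := by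
  sorry

theorem IsPull.id {A : Fam G} (D : Datum A) : IsPull D D (𝟙 A) := by
  sorry

/-- Node P2 (from K2a, K2b). -/
theorem existsUnique_hom {A A' : Fam G} (D : Datum A) (D' : Datum A') (b : A.base ⟶ A'.base)
    (hc : ∀ i, D.c i = pb b.left (D'.c i)) (hφ : ∀ l i, D.φ l i = pb b.left (D'.φ l i)) :
    ∃! h : A ⟶ A', h.hom.base = b ∧ IsPull D D' h := by
  sorry

/-- Node P3 (from K4a, K4c; compare E2). -/
theorem existsUnique_isMat {A : Fam G} (D D' : Datum A) :
    ∃! g : Matrix (Fin 3) (Fin 3) Γ(A.base.left, ⊤), IsMat D D' g := by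
  sorry

/-- Node P3b (from K4a, K4b; compare E3). -/
theorem IsMat.isUnit {A : Fam G} {D D' : Datum A} {g : Matrix (Fin 3) (Fin 3) Γ(A.base.left, ⊤)} (H : IsMat D D' g) :
    IsUnit g.det ∧ ∃ w : Γ(A.base.left, ⊤), IsUnit w ∧ comp3 (qf D'.c) g = MvPolynomial.C w * qf D.c := by
  sorry

/-- Node P4. -/
theorem exists_datum_of_matrix {A : Fam G} (D' : Datum A) (g : Matrix (Fin 3) (Fin 3) Γ(A.base.left, ⊤))
    (hg : IsUnit g.det) (c : Fin 5 → Γ(A.base.left, ⊤)) (w : Γ(A.base.left, ⊤)) (hw : IsUnit w)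
    (hq : comp3 (qf D'.c) g = MvPolynomial.C w * qf c) : ∃ D : Datum A, D.c = c ∧ IsMat D D' g := by
  sorry

/-- Node P4b. -/
theorem IsMat.pull {A A' : Fam G} {D D' : Datum A} {E E' : Datum A'} {h : A ⟶ A'} (H : IsPull D E h)
    (H' : IsPull D' E' h) {g : Matrix (Fin 3) (Fin 3) Γ(A'.base.left, ⊤)} (hg : IsMat E E' g) :
    IsMat D D' (g.map (pb h.hom.base.left)) := by
  sorry

end P

/-! ## V : morphisms to `VG G` -/

section V

theorem cAt_comp {T T' : Scheme.{u}} (t : T' ⟶ T) (u : T ⟶ VG G.1) (i : Fin 5) : cAt (t ≫ u) i = pb t (cAt u i) := by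
  sorry

theorem φAt_comp {T T' : Scheme.{u}} (t : T' ⟶ T) (u : T ⟶ VG G.1) (l : Fin (n + 1)) (i : Fin 3) :
    φAt (t ≫ u) l i = pb t (φAt u l i) := by
  sorry

/-- Node V1 (from H15, H16). -/
theorem reg_cAt (T : Over (Spec (CommRingCat.of k))) (u : T ⟶ VGk G.1) :
    Reg (cAt u.left) (φAt u.left) ∧ qf (cAt u.left) ∣ subF (kmap T.hom) G.1 (φAt u.left) := by
  sorry

/-- Node V2 (from H15, H16). -/
theorem existsUnique_toVG (T : Over (Spec (CommRingCat.of k))) (c : Fin 5 → Γ(T.left, ⊤))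
    (φ : Fin (n + 1) → Fin 3 → Γ(T.left, ⊤)) (hr : Reg c φ) (hd : qf c ∣ subF (kmap T.hom) G.1 φ) :
    ∃! u : T ⟶ VGk G.1, (∀ i, cAt u.left i = c i) ∧ ∀ l i, φAt u.left l i = φ l i := by
  sorry

/-- Node V3 (from K1, K6, K7b, M2, V1). -/
theorem nonempty_univ [CharZero k] (G : LefPen.Form n k d) : Nonempty (Univ G) := by
  sorry

/-- Node V4 (from K5c, K6, M2). -/
theorem reg_of_datum [CharZero k] (A : (Mst G).obj) (D : Datum A.obj) :
    Reg D.c D.φ ∧ qf D.c ∣ subF (kmap A.obj.base.hom) G.1 D.φ := by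
  sorry

/-- Node V5 (from D3): locally on the base every stable family is a family of maps from conics. -/
theorem exists_datum_nhds [CharZero k] (A : (Mst G).obj) (t : A.obj.base.left) :
    ∃ (A' : (Mst G).obj) (h : A' ⟶ A) (t' : A'.obj.base.left), IsOpenImmersion ((Mst G).p.map h).left ∧
      ((Mst G).p.map h).left t' = t ∧ Nonempty (Datum A'.obj) := by
  sorry

/-- Node V6 (from P1 - P4, V1 - V4): the product of the universal family with a family with a datum, and its projection. -/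
theorem exists_product [CharZero k] (U : Univ G) (Y : (Mst G).obj) (DY : Datum Y.obj) :
    ∃ (Z : (Mst G).obj) (α : Z ⟶ U.obj) (β : Z ⟶ Y),
      (∀ (Z' : (Mst G).obj) (a : Z' ⟶ U.obj) (b : Z' ⟶ Y), ∃! z : Z' ⟶ Z, z ≫ α = a ∧ z ≫ β = b) ∧
      Smooth ((Mst G).p.map β).left := by
  sorry

/-- Node V7 (from P1, P3, P3b, V1): two field valued points of `VG G` with isomorphic families are equivalent. -/
theorem eqv_of_hom [CharZero k] (U : Univ G) (Z : (Mst G).obj) (Ω : Type u) [Field Ω]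
    (s : Spec (CommRingCat.of Ω) ⟶ Spec (CommRingCat.of k)) (hZ : Z.obj.base = Over.mk s) (α α' : Z ⟶ U.obj)
    (v v' : VG G.1) (hv : ∀ z, ((Mst G).p.map α).left z = v) (hv' : ∀ z, ((Mst G).p.map α').left z = v') :
    Eqv G.1 v.1 v'.1 := by
  sorry

/-- Node V8 (from P1, P2, P4, V2). -/
theorem exists_hom_of_eqv [CharZero k] (U : Univ G) (v v' : VG G.1) (h : Eqv G.1 v.1 v'.1) :
    ∃ (Ω : Type u) (_ : Field Ω) (s : Spec (CommRingCat.of Ω) ⟶ Spec (CommRingCat.of k)) (Z : (Mst G).obj)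
      (_ : Z.obj.base = Over.mk s) (α α' : Z ⟶ U.obj),
      (∀ z, ((Mst G).p.map α).left z = v) ∧ (∀ z, ((Mst G).p.map α').left z = v') := by
  sorry

end V

end K745.PlanS
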