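import Groth.Agent.Fano.K745.Same
import Groth.Agent.Fano.K745.MatSpace
import Groth.Agent.Fano.K655.MapPre

/-!
# The product of the universal family of maps from conics with a family

* `Kit G`: the nodes P1 - P4, V1, V2, V4 of `PlanS`;
* `exists_product`: node V6 of `PlanS`, from `Kit G`.
-/

set_option autoImplicit false

universe u

open CategoryTheory CategoryTheory.Limits AlgebraicGeometry

namespace K745.Prod

open K390.PnSec Groth.Agent.Fdesc.LocGen K188.LineDef K745.ConDef K745.StDef K745.MatAlg K745.MatSpace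
open W4swstmapratcurves K655.MapPre

variable {k : Type u} [Field k] {n d : ℕ}

/-- The nodes P1 - P4, V1, V2, V4 of `PlanS`. -/
structure Kit (G : LefPen.Form n k d) : Prop where
  exists_pull : ∀ {A A' : Fam G} (h : A ⟶ A') (D' : Datum A'), ∃ D : Datum A, IsPull D D' h
  comp : ∀ {A A' A'' : Fam G} {D : Datum A} {D' : Datum A'} {D'' : Datum A''} {h : A ⟶ A'} {h' : A' ⟶ A''},
    IsPull D D' h → IsPull D' D'' h' → IsPull D D'' (h ≫ h')
  hom : ∀ {A A' : Fam G} (D : Datum A) (D' : Datum A') (b : A.base ⟶ A'.base),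
    (∀ i, D.c i = pb b.left (D'.c i)) → (∀ l i, D.φ l i = pb b.left (D'.φ l i)) →
      ∃! h : A ⟶ A', h.hom.base = b ∧ IsPull D D' h
  mat : ∀ {A : Fam G} (D D' : Datum A), ∃! g : Matrix (Fin 3) (Fin 3) Γ(A.base.left, ⊤), IsMat D D' g
  isUnit : ∀ {A : Fam G} {D D' : Datum A} {g : Matrix (Fin 3) (Fin 3) Γ(A.base.left, ⊤)}, IsMat D D' g →
    IsUnit g.det ∧ ∃ w : Γ(A.base.left, ⊤), IsUnit w ∧ comp3 (qf D'.c) g = MvPolynomial.C w * qf D.c
  change : ∀ {A : Fam G} (D' : Datum A) (g : Matrix (Fin 3) (Fin 3) Γ(A.base.left, ⊤)), IsUnit g.det →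
    ∀ (c : Fin 5 → Γ(A.base.left, ⊤)) (w : Γ(A.base.left, ⊤)), IsUnit w →
      comp3 (qf D'.c) g = MvPolynomial.C w * qf c → ∃ D : Datum A, D.c = c ∧ IsMat D D' g
  matPull : ∀ {A A' : Fam G} {D D' : Datum A} {E E' : Datum A'} {h : A ⟶ A'}, IsPull D E h → IsPull D' E' h →
    ∀ {g : Matrix (Fin 3) (Fin 3) Γ(A'.base.left, ⊤)}, IsMat E E' g → IsMat D D' (g.map (pb h.hom.base.left))
  cAt_comp : ∀ {T T' : Scheme.{u}} (t : T' ⟶ T) (u : T ⟶ VG G.1) (i : Fin 5), cAt (t ≫ u) i = pb t (cAt u i)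
  φAt_comp : ∀ {T T' : Scheme.{u}} (t : T' ⟶ T) (u : T ⟶ VG G.1) (l : Fin (n + 1)) (i : Fin 3),
    φAt (t ≫ u) l i = pb t (φAt u l i)
  toVG : ∀ (T : Over (Spec (CommRingCat.of k))) (c : Fin 5 → Γ(T.left, ⊤)) (φ : Fin (n + 1) → Fin 3 → Γ(T.left, ⊤)),
    Reg c φ → qf c ∣ subF (kmap T.hom) G.1 φ →
      ∃! u : T ⟶ VGk G.1, (∀ i, cAt u.left i = c i) ∧ ∀ l i, φAt u.left l i = φ l i
  reg : ∀ (A : (Mst G).obj) (D : Datum A.obj), Reg D.c D.φ ∧ qf D.c ∣ subF (kmap A.obj.base.hom) G.1 D.φ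

variable {G : LefPen.Form n k d}

theorem Kit.same_of_isMat (K : Kit G) {A : Fam G} {D E D' E' : Datum A}
    {g : Matrix (Fin 3) (Fin 3) Γ(A.base.left, ⊤)} (H : IsMat D D' g) (H' : IsMat E E' g) (h : Same D' E') :
    Same D E := by
  have h2 : ∃ τ : D'.L ≅ D'.L, ∀ i, τ.hom.app ⊤ (D'.x i) = D'.x i := ⟨Iso.refl _, fun _ => rfl⟩
  have hEE : Same E E := ⟨rfl, rfl, Iso.refl _, fun _ => rfl⟩
  have H1 : IsMat E D' g := H'.congr hEE h.symm
  obtain ⟨hg, w, hw, e⟩ := K.isUnit H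
  obtain ⟨-, w', -, e'⟩ := K.isUnit H1
  exact K745.StDef.same_of_isMat H H1 hg (eq_of_comp3_eq hw e e')

/-- A morphism of the stack is determined by the morphism of families. -/
theorem mst_hom_ext {A B : (Mst G).obj} {f g : A ⟶ B} (h : f.hom = g.hom) : f = g :=
  ObjectProperty.hom_ext _ h

variable (K : Kit G) (U : Univ G)

include K in
/-- Morphisms to the universal family are determined by the datum they define. -/
theorem hom_univ_ext {A : Fam G} {D : Datum A} {f g : A ⟶ U.fam} (h : IsPull D U.dat f) (h' : IsPull D U.dat g)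
    (hr : Reg D.c D.φ) (hd : qf D.c ∣ subF (kmap A.base.hom) G.1 D.φ) : f = g := by
  have key : ∀ f : A ⟶ U.fam, IsPull D U.dat f → (∀ i, cAt f.hom.base.left i = D.c i) ∧
      ∀ l i, φAt f.hom.base.left l i = D.φ l i := by
    intro f h
    refine ⟨fun i => ?_, fun l i => ?_⟩
    · rw [h.c]
      exact (congrArg (fun t => cAt t i) (Category.comp_id _)).symm.trans (K.cAt_comp _ _ _)
    · rw [h.φ]
      exact (congrArg (fun t => φAt t l i) (Category.comp_id _)).symm.trans (K.φAt_comp _ _ _ _)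
  have hb : f.hom.base = g.hom.base := (K.toVG A.base D.c D.φ hr hd).unique (key f h) (key g h')
  exact (K.hom D U.dat f.hom.base h.c h.φ).unique ⟨rfl, h⟩ ⟨hb.symm, h'⟩

include K in
/-- Node V6. -/
theorem exists_product (Y : (Mst G).obj) (DY : Datum Y.obj) :
    ∃ (Z : (Mst G).obj) (α : Z ⟶ U.obj) (β : Z ⟶ Y),
      (∀ (Z' : (Mst G).obj) (a : Z' ⟶ U.obj) (b : Z' ⟶ Y), ∃! z : Z' ⟶ Z, z ≫ α = a ∧ z ≫ β = b) ∧
      Smooth ((Mst G).p.map β).left := by
  obtain ⟨W, w, gW, hsm, hdet, hq, hex, hun⟩ := exists_matSpace DY.c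
  let b : Over.mk (w ≫ Y.obj.base.hom) ⟶ Y.obj.base := Over.homMk w
  have hbl : b.left = w := rfl
  let β₀ : bc Y.obj b ⟶ Y.obj := bcHom Y.obj b
  let Z : (Mst G).obj := ⟨bc Y.obj b, stable_cond _ _ _ _ _ _ β₀ Y.property⟩
  let β : Z ⟶ Y := ObjectProperty.homMk β₀
  obtain ⟨E', hE'⟩ := K.exists_pull β₀ DY
  obtain ⟨w', hw'⟩ := hq.exists_left_inv
  have hE'c : E'.c = fun i => pb w (DY.c i) := funext hE'.c
  obtain ⟨E, hEc, hEE'⟩ := K.change E' gW hdet (chg (fun i => pb w (DY.c i)) gW w') _ hq (by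
    rw [hE'c]
    exact comp3_qf_eq _ gW w' hw')
  obtain ⟨hr, hdv⟩ := K.reg Z E
  obtain ⟨u, ⟨hu1, hu2⟩, -⟩ := K.toVG _ E.c E.φ hr hdv
  obtain ⟨α₀, ⟨hαb, hα⟩, -⟩ := K.hom E U.dat u
    (fun i => (hu1 i).symm.trans ((congrArg (fun t => cAt t i) (Category.comp_id _)).symm.trans (K.cAt_comp _ _ _)))
    (fun l i => (hu2 l i).symm.trans
      ((congrArg (fun t => φAt t l i) (Category.comp_id _)).symm.trans (K.φAt_comp _ _ _ _)))
  let α : Z ⟶ U.obj := ObjectProperty.homMk α₀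
  refine ⟨Z, α, β, ?_, hsm⟩
  intro Z' a b'
  -- the data on `Z'`
  obtain ⟨D, hD⟩ := K.exists_pull a.hom U.dat
  obtain ⟨D', hD'⟩ := K.exists_pull b'.hom DY
  obtain ⟨g, hg, hgu⟩ := K.mat D D'
  obtain ⟨hgd, w₁, hw₁, hgq⟩ := K.isUnit hg
  have hD'c : D'.c = fun i => pb b'.hom.hom.base.left (DY.c i) := funext hD'.c
  have hqg : IsUnit (qv (fun i => pb b'.hom.hom.base.left (DY.c i)) (fun i => g i 0)) := by
    rw [← hD'c, (coeffs_of_comp3_eq hgq).1]
    exact hw₁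
  obtain ⟨h, hh, hhg⟩ := hex _ b'.hom.hom.base.left g hgd hqg
  let h' : Z'.obj.base ⟶ Over.mk (w ≫ Y.obj.base.hom) := Over.homMk h (by
    change h ≫ w ≫ Y.obj.base.hom = _
    rw [← Category.assoc, hh]
    exact Over.w b'.hom.hom.base)
  have hh' : h' ≫ b = b'.hom.hom.base := Over.OverMorphism.ext hh
  obtain ⟨χ, ⟨hχ1, hχ2⟩, hχu⟩ := existsUnique_fac β₀ h' b'.hom hh'
  have hdD := K.reg Z' D
  -- a morphism to `Z` is compatible with the data
  have main : ∀ z : Z'.obj ⟶ bc Y.obj b, z ≫ β₀ = b'.hom →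
      ∃ F F' : Datum Z'.obj, IsPull F E z ∧ IsPull F' E' z ∧ Same F' D' ∧
        IsMat F F' (gW.map (pb z.hom.base.left)) := by
    intro z hz
    obtain ⟨F, hF⟩ := K.exists_pull z E
    obtain ⟨F', hF'⟩ := K.exists_pull z E'
    refine ⟨F, F', hF, hF', ?_, K.matPull hF hF' hEE'⟩
    have h1 := K.comp hF' hE'
    rw [hz] at h1
    exact same_of_isPull h1 hD'
  refine ⟨ObjectProperty.homMk χ, ⟨?_, mst_hom_ext hχ2⟩, ?_⟩
  · obtain ⟨F, F', hF, hF', hs, hm⟩ := main χ hχ2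
    rw [hχ1] at hm
    have hm' : IsMat F F' g := by
      have : gW.map (pb h'.left) = g := hhg
      rw [this] at hm
      exact hm
    have hsame : Same F D := K.same_of_isMat hm' hg hs
    have h1 : IsPull D U.dat (χ ≫ α₀) := (K.comp hF hα).congr hsame
    exact mst_hom_ext (hom_univ_ext K U h1 hD hdD.1 hdD.2)
  · rintro z ⟨hz1, hz2⟩
    have hz1' : z.hom ≫ α₀ = a.hom := congrArg (fun t => t.hom) hz1
    have hz2' : z.hom ≫ β₀ = b'.hom := congrArg (fun t => t.hom) hz2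
    obtain ⟨F, F', hF, hF', hs, hm⟩ := main z.hom hz2'
    have h1 : IsPull F U.dat a.hom := by
      have := K.comp hF hα
      rwa [hz1'] at this
    have hs2 : Same F D := same_of_isPull h1 hD
    have h3 : IsMat D D' (gW.map (pb z.hom.hom.base.left)) := hm.congr hs2 hs
    have h4 : gW.map (pb z.hom.hom.base.left) = g := hgu _ h3
    have h5 : z.hom.hom.base = h' := by
      apply Over.OverMorphism.ext
      refine hun _ _ _ ?_ ?_
      · rw [show h'.left = h from rfl, hh]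
        exact congrArg (fun t : Z'.obj ⟶ Y.obj => t.hom.base.left) hz2'
      · rw [show h'.left = h from rfl, hhg]
        exact h4
    exact mst_hom_ext (hχu z.hom ⟨h5, hz2'⟩)

end K745.Prod
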