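import Groth.Agent.Fano.K745.Chart

/-!
# The map `VG G ⟶ |Mst G|`

From the nodes G2, G3, V5, V7, V8 (hypotheses) and the chart: continuous, open, surjective, and its fibres are the classes
of `Eqv`.
-/

set_option autoImplicit false
set_option backward.isDefEq.respectTransparency false
set_option backward.isDefEq.respectTransparency.types false

universe u

open CategoryTheory CategoryTheory.Limits AlgebraicGeometry

namespace K745.Pts

open K745.ConDef K745.HDef K745.StDef K745.Prod K745.Chart W4swstmapratcurves K655.MapPre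

variable {k : Type u} [Field k] {n d : ℕ} {G : LefPen.Form n k d}

/-- The statement of node G2 for charts of `Mst G`. -/
def NodeG2 (G : LefPen.Form n k d) : Prop :=
  ∀ {B : Over (Spec (CommRingCat.of k))} (X : FibCat.overCat B ⥤ᵇ Mst G) (p : AlgSt.FPt (Mst G))
    (α : p.obj ⟶ X.obj (Over.mk (𝟙 B))) (z : ((Mst G).p.obj p.obj).left),
    AlgSt.Points.mk p = AlgSt.Points.ofChart X (((Mst G).p.map α ≫ eqToHom (X.w_obj (Over.mk (𝟙 B)))).left z)

/-- The statement of node G3 for charts of `Mst G`. -/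
def NodeG3 (G : LefPen.Form n k d) : Prop :=
  ∀ {B : Over (Spec (CommRingCat.of k))} (X : FibCat.overCat B ⥤ᵇ Mst G) (v v' : B.left),
    AlgSt.Points.ofChart X v = AlgSt.Points.ofChart X v' ↔
      ∃ (r : AlgSt.FPt (Mst G)) (α α' : r.obj ⟶ X.obj (Over.mk (𝟙 B))),
        (∀ z, ((Mst G).p.map α ≫ eqToHom (X.w_obj (Over.mk (𝟙 B)))).left z = v) ∧
        (∀ z, ((Mst G).p.map α' ≫ eqToHom (X.w_obj (Over.mk (𝟙 B)))).left z = v')

/-- A morphism from a field valued point to the universal family gives its class. -/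
theorem mk_eq (h2 : NodeG2 G) (U : Univ G) (p : AlgSt.FPt (Mst G)) (θ : p.obj ⟶ U.obj)
    (z : ((Mst G).p.obj p.obj).left) :
    AlgSt.Points.mk p = AlgSt.Points.ofChart (xV U) (((Mst G).p.map θ).left z) := by
  have h := h2 (xV U) p (θ ≫ inv (eU U)) z
  rw [map_comp_inv_eU U θ] at h
  exact h

theorem nonempty_left (p : AlgSt.FPt (Mst G)) : Nonempty ((Mst G).p.obj p.obj).left := by
  have h : ∀ (B : Over (Spec (CommRingCat.of k))), B = Over.mk p.str → Nonempty B.left := by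
    rintro B rfl
    exact inferInstanceAs (Nonempty (PrimeSpectrum p.K))
  exact h _ p.lies

theorem surjective (h2 : NodeG2 G) (U : Univ G) (hθ : ∀ p : AlgSt.FPt (Mst G), ∃ _ : p.obj ⟶ U.obj, True) :
    Function.Surjective (AlgSt.Points.ofChart (xV U)) := by
  intro x
  obtain ⟨p, rfl⟩ := AlgSt.Points.mk_surjective x
  obtain ⟨θ, -⟩ := hθ p
  obtain ⟨z⟩ := nonempty_left p
  exact ⟨_, (mk_eq h2 U p θ z).symm⟩

theorem ofChart_eq_iff (h3 : NodeG3 G) (U : Univ G)
    (hV7 : ∀ (Z : (Mst G).obj) (Ω : Type u) [Field Ω]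
      (s : Spec (CommRingCat.of Ω) ⟶ Spec (CommRingCat.of k)) (_ : Z.obj.base = Over.mk s) (α α' : Z ⟶ U.obj)
      (v v' : VG G.1) (_ : ∀ z, ((Mst G).p.map α).left z = v) (_ : ∀ z, ((Mst G).p.map α').left z = v'),
      Eqv G.1 v.1 v'.1)
    (hV8 : ∀ (v v' : VG G.1), Eqv G.1 v.1 v'.1 →
      ∃ (Ω : Type u) (_ : Field Ω) (s : Spec (CommRingCat.of Ω) ⟶ Spec (CommRingCat.of k)) (Z : (Mst G).obj)
        (_ : Z.obj.base = Over.mk s) (α α' : Z ⟶ U.obj),
        (∀ z, ((Mst G).p.map α).left z = v) ∧ (∀ z, ((Mst G).p.map α').left z = v'))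
    (v v' : VG G.1) :
    AlgSt.Points.ofChart (xV U) v = AlgSt.Points.ofChart (xV U) v' ↔ Eqv G.1 v.1 v'.1 := by
  refine (h3 (xV U) v v').trans ⟨?_, ?_⟩
  · rintro ⟨r, α, α', h1, h2⟩
    refine hV7 r.obj r.K r.str r.lies (α ≫ eU U) (α' ≫ eU U) v v' (fun z => ?_) (fun z => ?_)
    · rw [← map_comp_eU]
      exact h1 z
    · rw [← map_comp_eU]
      exact h2 z
  · intro h
    obtain ⟨Ω, _, s, Z, hZ, α, α', h1, h2⟩ := hV8 v v' h
    refine ⟨⟨Ω, s, Z, hZ⟩, α ≫ inv (eU U), α' ≫ inv (eU U), fun z => ?_, fun z => ?_⟩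
    · rw [map_comp_inv_eU U α]
      exact h1 z
    · rw [map_comp_inv_eU U α']
      exact h2 z

theorem continuous_ofChart (U : Univ G) (h : AlgSt.RepByAlgSpWith (AlgSp.LocP @Smooth) (xV U)) :
    Continuous (AlgSt.Points.ofChart (xV U)) :=
  ⟨fun _ hW => hW _ (xV U) h⟩

theorem isOpenMap_ofChart (U : Univ G) (h : AlgSt.RepByAlgSpWith (AlgSp.LocP @Smooth) (xV U)) :
    IsOpenMap (AlgSt.Points.ofChart (xV U)) :=
  K735.Top.isOpenMap_ofChart (xV U) (K735.Top.isOpenMap_map K735.Top.isOpenMap_of_smooth (isFibGrpd G)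
    (K736.Fib.isFibGrpd_overCat _) (K735.Top.chartCont_overCat _) h)

end K745.Pts
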