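import Groth.Agent.Fano.K745.StDef

/-!
# Data of families of maps from conics: isomorphic data

* `Same D E`: the data `D`, `E` of the same family are isomorphic;
* `same_of_isPull`, `IsMat.congr`, `IsPull.congr`, `same_of_isMat`.
-/

set_option autoImplicit false

universe u

open CategoryTheory CategoryTheory.Limits AlgebraicGeometry

namespace K745.StDef

open K390.PnSec Groth.Agent.Fdesc.LocGen K188.LineDef K745.ConDef W4swstmapratcurves

variable {k : Type u} [Field k] {n d : ℕ} {G : LefPen.Form n k d}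

/-- Isomorphic data. -/
structure Same {A : Fam G} (D E : Datum A) : Prop where
  c : D.c = E.c
  φ : D.φ = E.φ
  x : ∃ τ : E.L ≅ D.L, ∀ i, τ.hom.app ⊤ (E.x i) = D.x i

theorem inv_hom_app {X : Scheme.{u}} {M N : X.Modules} (τ : M ≅ N) (s : Γ(M, ⊤)) :
    τ.inv.app ⊤ (τ.hom.app ⊤ s) = s := by
  have h := congr(($(τ.hom_inv_id).app ⊤) s)
  exact h

theorem hom_inv_app {X : Scheme.{u}} {M N : X.Modules} (τ : M ≅ N) (s : Γ(N, ⊤)) :
    τ.hom.app ⊤ (τ.inv.app ⊤ s) = s := by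
  have h := congr(($(τ.inv_hom_id).app ⊤) s)
  exact h

theorem Same.symm {A : Fam G} {D E : Datum A} (h : Same D E) : Same E D := by
  obtain ⟨h1, h2, τ, hτ⟩ := h
  refine ⟨h1.symm, h2.symm, τ.symm, fun i => ?_⟩
  rw [← hτ]
  exact inv_hom_app τ _

theorem same_of_isPull {A A' : Fam G} {D E : Datum A} {D' : Datum A'} {h : A ⟶ A'} (H : IsPull D D' h)
    (H' : IsPull E D' h) : Same D E := by
  obtain ⟨τ, hτ⟩ := H.x
  obtain ⟨τ', hτ'⟩ := H'.x
  refine ⟨funext fun i => (H.c i).trans (H'.c i).symm, funext fun l => funext fun i => (H.φ l i).trans (H'.φ l i).symm,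
    τ'.symm ≪≫ τ, fun i => ?_⟩
  rw [← hτ', ← hτ]
  exact congrArg (τ.hom.app ⊤) (inv_hom_app τ' _)

theorem IsPull.congr {A A' : Fam G} {D E : Datum A} {D' : Datum A'} {h : A ⟶ A'} (H : IsPull D D' h)
    (H' : Same D E) : IsPull E D' h := by
  obtain ⟨τ, hτ⟩ := H.x
  obtain ⟨τ', hτ'⟩ := H'.symm.x
  refine ⟨fun i => by rw [← H'.c]; exact H.c i, fun l i => by rw [← H'.φ]; exact H.φ l i, τ ≪≫ τ', fun i => ?_⟩
  rw [← hτ', ← hτ]
  rfl

theorem IsMat.congr {A : Fam G} {D D' E E' : Datum A} {g : Matrix (Fin 3) (Fin 3) Γ(A.base.left, ⊤)}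
    (H : IsMat D D' g) (h : Same D E) (h' : Same D' E') : IsMat E E' g := by
  obtain ⟨τ, hτ⟩ := H.x
  obtain ⟨σ, hσ⟩ := h.symm.x
  obtain ⟨σ', hσ'⟩ := h'.x
  refine ⟨fun l j => by rw [← h.φ, ← h'.φ]; exact H.φ l j, σ' ≪≫ τ ≪≫ σ, fun i => ?_⟩
  have h1 : (σ' ≪≫ τ ≪≫ σ).hom.app ⊤ (E'.x i) = σ.hom.app ⊤ (τ.hom.app ⊤ (σ'.hom.app ⊤ (E'.x i))) := rfl
  rw [h1, hσ', hτ, app_sum_smul]
  exact Finset.sum_congr rfl fun j _ => by rw [hσ]

theorem same_of_isMat {A : Fam G} {D E E' : Datum A} {g : Matrix (Fin 3) (Fin 3) Γ(A.base.left, ⊤)}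
    (H : IsMat D E' g) (H' : IsMat E E' g) (hg : IsUnit g.det) (hc : D.c = E.c) : Same D E := by
  obtain ⟨τ, hτ⟩ := H.x
  obtain ⟨τ', hτ'⟩ := H'.x
  refine ⟨hc, funext fun l => funext fun j => (H.φ l j).trans (H'.φ l j).symm, τ'.symm ≪≫ τ, fun i => ?_⟩
  have key : ∀ i, ∑ j, (A.f.appTop (g i j)) • (τ'.symm ≪≫ τ).hom.app ⊤ (E.x j) =
      ∑ j, (A.f.appTop (g i j)) • D.x j := by
    intro i
    rw [← app_sum_smul, ← hτ', ← hτ]
    exact congrArg (τ.hom.app ⊤) (inv_hom_app τ' _)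
  -- multiply by the inverse matrix
  obtain ⟨G', hG'⟩ : ∃ G' : Matrix (Fin 3) (Fin 3) Γ(A.base.left, ⊤), G' * g = 1 :=
    ⟨g⁻¹, Matrix.nonsing_inv_mul g hg⟩
  have e : ∀ (y : Fin 3 → Γ(D.L, ⊤)) (l : Fin 3), ∑ i, (A.f.appTop (G' l i)) • ∑ j, (A.f.appTop (g i j)) • y j =
      y l := by
    intro y l
    simp only [Finset.smul_sum, smul_smul]
    rw [Finset.sum_comm]
    have h2 : ∀ j, ∑ i, ((A.f.appTop (G' l i)) * (A.f.appTop (g i j))) • y j =
        (A.f.appTop ((G' * g) l j)) • y j := by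
      intro j
      rw [← Finset.sum_smul, Matrix.mul_apply, map_sum]
      simp only [map_mul]
    rw [Finset.sum_congr rfl fun j _ => h2 j, hG']
    simp only [Matrix.one_apply]
    rw [Finset.sum_eq_single l]
    · simp
    · intro j _ hj
      rw [if_neg (Ne.symm hj), map_zero, zero_smul]
    · simp
  rw [← e (fun j => (τ'.symm ≪≫ τ).hom.app ⊤ (E.x j)) i, ← e D.x i]
  exact Finset.sum_congr rfl fun l _ => congrArg _ (key l)

end K745.StDef
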