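import Groth.Agent.Fano.K745.Pts
import Groth.Agent.Fano.K925.StV

/-!
# Unobstructed points of `VG G` and of the stack

* `unobPt_iff` : the condition at a point in terms of any field valued point over it (from H13);
* `unobPt_of_eqv` : invariance (from H13, H14);
* `unob_of_hom` : the datum of a geometric point of the stack is unobstructed if the point of `VG G` is.
-/

set_option autoImplicit false
set_option backward.isDefEq.respectTransparency false
set_option backward.isDefEq.respectTransparency.types false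

universe u

open CategoryTheory CategoryTheory.Limits AlgebraicGeometry

namespace K745.UnobP

open K745.ConDef K745.HDef K745.StDef K745.Prod K745.Chart W4swstmapratcurves K655.MapPre K925.StV
open K188.LineDef

section Ring

variable {n d : ℕ}

theorem unob_of_ringEquiv {R A B : Type u} [CommRing R] [CommRing A] [CommRing B] (e : A ≃+* B) {ρ : R →+* A}
    {ρ' : R →+* B} (hρ : ∀ r, ρ' r = e (ρ r)) {G : MvPolynomial (Fin (n + 1)) R} {c : Fin 5 → A}
    {φ : Fin (n + 1) → Fin 3 → A} {c' : Fin 5 → B} {φ' : Fin (n + 1) → Fin 3 → B} (hc : ∀ i, c' i = e (c i))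
    (hφ : ∀ l i, φ' l i = e (φ l i)) (h : Unob d ρ G c φ) : Unob d ρ' G c' φ' := by
  intro F hF
  obtain ⟨v, H, hv⟩ := h (F.map e.symm.toRingHom) (hF.map _)
  have hc' : c' = fun i => e.toRingHom (c i) := funext hc
  have hφ' : φ' = fun l i => e.toRingHom (φ l i) := funext fun l => funext fun i => hφ l i
  have hρ' : ρ' = e.toRingHom.comp ρ := RingHom.ext hρ
  have h1 : F = (F.map e.symm.toRingHom).map e.toRingHom := by
    rw [MvPolynomial.map_map]
    have : e.toRingHom.comp e.symm.toRingHom = RingHom.id B := RingHom.ext fun b => e.apply_symm_apply b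
    rw [this, MvPolynomial.map_id]
  have hl : ∀ w : Fin 3 → A, (lin3 w).map e.toRingHom = lin3 (fun i => e.toRingHom (w i)) := by
    intro w
    simp [lin3]
  have hd : ∀ l, (dG ρ G φ l).map e.toRingHom = dG ρ' G φ' l := by
    intro l
    rw [dG, dG, subF, subF, MvPolynomial.eval₂_comp_left, hρ', hφ']
    congr 1
    · ext r
      simp
    · funext l
      exact hl _
  refine ⟨fun l i => e.toRingHom (v l i), H.map e.toRingHom, ?_⟩
  rw [h1, hv, map_add, map_sum, map_mul, map_qf, hc']
  congr 1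
  exact Finset.sum_congr rfl fun l _ => by rw [map_mul, hd, hl]

variable {R : Type u} [CommRing R] (G : MvPolynomial (Fin (n + 1)) R)

/-- The statement of node H13. -/
def NodeH13 (n d : ℕ) : Prop :=
  ∀ {R K K' : Type u} [CommRing R] [Field K] [Field K'] (ρ : R →+* K) (β : K →+* K')
    (G : MvPolynomial (Fin (n + 1)) R) (_ : 1 ≤ d) (_ : G.IsHomogeneous d) (c : Fin 5 → K)
    (φ : Fin (n + 1) → Fin 3 → K),
    Unob d (β.comp ρ) G (fun i => β (c i)) (fun l i => β (φ l i)) ↔ Unob d ρ G c φ

/-- The statement of node H14. -/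
def NodeH14 (n d : ℕ) : Prop :=
  ∀ {R K : Type u} [CommRing R] [CommRing K] (ρ : R →+* K)
    (G : MvPolynomial (Fin (n + 1)) R) (c c' : Fin 5 → K) (φ φ' : Fin (n + 1) → Fin 3 → K)
    (g : Matrix (Fin 3) (Fin 3) K) (_ : IsUnit g.det) (w : K) (_ : IsUnit w)
    (_ : comp3 (qf c') g = MvPolynomial.C w * qf c) (_ : ∀ l j, φ l j = ∑ i, φ' l i * g i j),
    Unob d ρ G c φ ↔ Unob d ρ G c' φ'

variable {G}

theorem unobPt_iff (h13 : NodeH13.{u} n d) (hd : 1 ≤ d) (hG : G.IsHomogeneous d) {K : Type u} [Field K]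
    (α : RC G →+* K) (p : PrimeSpectrum (RC G)) (hα : RingHom.ker α = p.asIdeal) :
    UnobPt d G p ↔ UnobAt d G α := by
  obtain ⟨β, hβ⟩ : ∃ β : p.asIdeal.ResidueField →+* K, ∀ a, β (algebraMap (RC G) _ a) = α a := by
    refine ⟨Ideal.ResidueField.lift p.asIdeal α (fun a ha => by rwa [← hα] at ha) (fun a ha => ?_), fun a => ?_⟩
    · have h1 : α a ≠ 0 := fun h0 => ha (by
        rw [← hα]
        exact h0)
      exact IsUnit.mk0 _ h1
    · exact Ideal.ResidueField.lift_algebraMap _ _ _ _ _
  have h := h13 ((algebraMap (RC G) p.asIdeal.ResidueField).comp (algebraMap R (RC G))) β G hd hG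
    (fun i => algebraMap (RC G) p.asIdeal.ResidueField (mkR G (cU n R i)))
    (fun l i => algebraMap (RC G) p.asIdeal.ResidueField (mkR G (φU n R l i)))
  have h1 : β.comp ((algebraMap (RC G) p.asIdeal.ResidueField).comp (algebraMap R (RC G))) =
      α.comp (algebraMap R (RC G)) := RingHom.ext fun r => hβ _
  rw [h1] at h
  simp only [hβ] at h
  exact h.symm

theorem unobPt_of_eqv (h13 : NodeH13.{u} n d) (h14 : NodeH14.{u} n d) (hd : 1 ≤ d) (hG : G.IsHomogeneous d)
    {p p' : PrimeSpectrum (RC G)} (h : Eqv G p p') : UnobPt d G p ↔ UnobPt d G p' := by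
  obtain ⟨Ω, _, α, α', h1, h2, h3, g, w, hg, hw, hq, hφ⟩ := h
  rw [unobPt_iff h13 hd hG α p h1, unobPt_iff h13 hd hG α' p' h2, UnobAt, UnobAt, h3]
  exact h14 _ G _ _ _ _ g hg w (IsUnit.mk0 _ hw) hq hφ

end Ring

section Geo

theorem gm_id {R : Type u} [CommRing R] : gm (𝟙 (Spec (CommRingCat.of R))) =
    (Scheme.ΓSpecIso (CommRingCat.of R)).inv.hom := by
  ext r
  rw [gm_apply, Scheme.Hom.id_appTop]
  rfl

/-- The ring homomorphism to the field of a point of an affine scheme. -/
noncomputable def toF {K R : Type u} [Field K] [CommRing R] (v : Spec (CommRingCat.of K) ⟶ Spec (CommRingCat.of R)) :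
    R →+* K := (Scheme.ΓSpecIso (CommRingCat.of K)).hom.hom.comp (gm v)

theorem inv_toF {K R : Type u} [Field K] [CommRing R] (v : Spec (CommRingCat.of K) ⟶ Spec (CommRingCat.of R))
    (r : R) : (Scheme.ΓSpecIso (CommRingCat.of K)).inv.hom (toF v r) = gm v r := by
  have h := ConcreteCategory.congr_hom (Scheme.ΓSpecIso (CommRingCat.of K)).hom_inv_id (gm v r)
  exact h

theorem eq_map_toF {K R : Type u} [Field K] [CommRing R] (v : Spec (CommRingCat.of K) ⟶ Spec (CommRingCat.of R)) :
    v = Spec.map (CommRingCat.ofHom (toF v)) := by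
  apply ext_gm
  have h := gm_comp_map (𝟙 (Spec (CommRingCat.of K))) (toF v)
  rw [Category.id_comp] at h
  rw [h, gm_id]
  ext r
  exact (inv_toF v r).symm

theorem ker_toF {K R : Type u} [Field K] [CommRing R] (v : Spec (CommRingCat.of K) ⟶ Spec (CommRingCat.of R))
    (z : Spec (CommRingCat.of K)) : RingHom.ker (toF v) = (v z).asIdeal := by
  have hz : z.asIdeal = ⊥ := by
    have : z.asIdeal.IsPrime := z.2
    rcases eq_or_ne z.asIdeal ⊥ with h | h
    · exact h
    · obtain ⟨a, ha, ha0⟩ := Submodule.exists_mem_ne_zero_of_ne_bot h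
      exact absurd ((Ideal.eq_top_iff_one _).2 (by
        have := Ideal.mul_mem_left z.asIdeal a⁻¹ ha
        rwa [inv_mul_cancel₀ ha0] at this)) this.ne_top
  have h1 : v z = (Spec.map (CommRingCat.ofHom (toF v))) z := congrArg (fun t => t z) (eq_map_toF v)
  rw [h1]
  have h2 : ((Spec.map (CommRingCat.ofHom (toF v))) z).asIdeal = Ideal.comap (toF v) z.asIdeal := rfl
  rw [h2, hz]
  rfl

variable {k : Type u} [Field k] {n d : ℕ} {G : LefPen.Form n k d}

/-- The datum of a geometric point of the stack is unobstructed if the point of `VG G` is. -/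
theorem unob_datum (h13 : NodeH13.{u} n d) (hd : 1 ≤ d) (U : Univ G) (A : Fam G) (K : Type u) [Field K]
    (s : Spec (CommRingCat.of K) ⟶ Spec (CommRingCat.of k)) (hA : A.base = Over.mk s) (θ : A ⟶ U.fam) (D : Datum A)
    (hD : IsPull D U.dat θ) (v : VG G.1) (hv : ∀ z, θ.hom.base.left z = v) (hu : UnobPt d G.1 v.1) :
    Unob d (kmap A.base.hom) G.1 D.c D.φ := by
  obtain ⟨⟨base, C, f, sect, sect_f⟩, map, map_over⟩ := A
  change base = Over.mk s at hA
  subst hA
  let u : Spec (CommRingCat.of K) ⟶ VG G.1 := θ.hom.base.left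
  let w : Spec (CommRingCat.of K) ⟶ Spec (CommRingCat.of (RC G.1)) := u ≫ (VO G.1).ι
  let z : Spec (CommRingCat.of K) := (⟨⊥, Ideal.isPrime_bot⟩ : PrimeSpectrum K)
  have hGh : MvPolynomial.IsHomogeneous G.1 d := (MvPolynomial.mem_homogeneousSubmodule _ _).1 G.2
  have hw : w z = v.1 := by
    have h1 : w z = (VO G.1).ι (u z) := rfl
    have h2 : u z = v := hv z
    rw [h1, h2]
    rfl
  have hker : RingHom.ker (toF w) = v.1.asIdeal := by
    rw [ker_toF w z, hw]
  have h1 : UnobAt d G.1 (toF w) := (unobPt_iff h13 hd hGh (toF w) v.1 hker).1 hu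
  have hov : u ≫ (VGk G.1).hom = (Over.mk s).hom := Over.w θ.hom.base
  refine unob_of_ringEquiv (Scheme.ΓSpecIso (CommRingCat.of K)).symm.commRingCatIsoToRingEquiv ?_ ?_ ?_ h1
  · intro r
    have h2 : (gm w).comp (algebraMap k (RC G.1)) = kmap (Over.mk s).hom :=
      gm_algebraMap (T := Over.mk s) w (by
        rw [Category.assoc]
        exact hov)
    rw [← h2]
    exact (inv_toF w _).symm
  · intro i
    rw [hD.c i]
    refine Eq.trans ?_ (inv_toF w _).symm
    refine (cAt_comp u (𝟙 (VG G.1)) i).symm.trans ?_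
    rw [Category.comp_id]
    rfl
  · intro l i
    rw [hD.φ l i]
    refine Eq.trans ?_ (inv_toF w _).symm
    refine (φAt_comp u (𝟙 (VG G.1)) l i).symm.trans ?_
    rw [Category.comp_id]
    rfl

end Geo

end K745.UnobP
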